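import Cfsg.Agent.Lib.Small.HallSym.Sym

/-!
Every Hall subgroup of an alternating group is the intersection with it of a Hall subgroup of the
symmetric group.
-/

set_option autoImplicit false

namespace Cfsg.Agent.Small.HallSym

open Equiv
open scoped Nat

variable {n : ℕ} {H : Subgroup (Perm (Fin n))}

/-- A three-cycle `a ↦ b ↦ c ↦ a`. -/
def cyc (a b c : Fin n) : Perm (Fin n) := swap a b * swap b c

theorem cyc_conj (g : Perm (Fin n)) (a b c : Fin n) :
    g * cyc a b c * g⁻¹ = cyc (g a) (g b) (g c) := by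
  rw [cyc, cyc, ← swap_conj, ← swap_conj]; group

theorem cyc_rot {a b c : Fin n} (hab : a ≠ b) (hac : a ≠ c) (hbc : b ≠ c) :
    cyc a b c = cyc b c a := by
  rw [cyc, cyc]
  have h := swap_conj (swap b c) c a
  rw [swap_apply_right, swap_apply_of_ne_of_ne hab hac, swap_inv, swap_comm b a] at h
  rw [← h, mul_assoc (swap b c), mul_assoc, ← mul_assoc (swap b c), swap_comm c a]
  have h2 := swap_conj (swap b c) c a
  ext x
  simp only [Perm.mul_apply, swap_apply_def]
  split_ifs <;> simp_all

theorem cyc_inv {a b c : Fin n} : (cyc a b c)⁻¹ = cyc c b a := by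
  rw [cyc, cyc, _root_.mul_inv_rev, swap_inv, swap_inv, swap_comm c b, swap_comm b a]

theorem cyc_apply_first {a b c : Fin n} (hab : a ≠ b) (hac : a ≠ c) : cyc a b c a = b := by
  rw [cyc, Perm.mul_apply, swap_apply_of_ne_of_ne hab hac, swap_apply_left]

theorem cyc_apply_mid {a b c : Fin n} (hac : a ≠ c) (hbc : b ≠ c) : cyc a b c b = c := by
  rw [cyc, Perm.mul_apply, swap_apply_left, swap_apply_of_ne_of_ne hac.symm hbc.symm]

theorem cyc_apply_last {a b c : Fin n} : cyc a b c c = a := by
  rw [cyc, Perm.mul_apply, swap_apply_right, swap_apply_right]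

theorem cyc_apply_out {a b c x : Fin n} (ha : x ≠ a) (hb : x ≠ b) (hc : x ≠ c) :
    cyc a b c x = x := by
  rw [cyc, Perm.mul_apply, swap_apply_of_ne_of_ne hb hc, swap_apply_of_ne_of_ne ha hb]

/-- Related points: equal, or on a common three-cycle of the group. -/
def Rel (H : Subgroup (Perm (Fin n))) (a b : Fin n) : Prop :=
  a = b ∨ (a ≠ b ∧ ∃ c, a ≠ c ∧ b ≠ c ∧ cyc a b c ∈ H)

theorem Rel.symm {a b : Fin n} (h : Rel H a b) : Rel H b a := by
  rcases h with rfl | ⟨hab, c, hac, hbc, hc⟩
  · exact Or.inl rfl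
  refine Or.inr ⟨hab.symm, c, hbc, hac, ?_⟩
  have := inv_mem hc
  rw [cyc_inv] at this
  rwa [cyc_rot hbc.symm hac.symm hab.symm] at this

theorem Rel.map {a b : Fin n} (h : Rel H a b) {g : Perm (Fin n)} (hg : g ∈ H) :
    Rel H (g a) (g b) := by
  rcases h with rfl | ⟨hab, c, hac, hbc, hc⟩
  · exact Or.inl rfl
  refine Or.inr ⟨g.injective.ne hab, g c, g.injective.ne hac, g.injective.ne hbc, ?_⟩
  rw [← cyc_conj]
  exact mul_mem (mul_mem hg hc) (inv_mem hg)

theorem cyc_mem {a b c : Fin n} (h1 : Rel H a b) (h2 : Rel H b c) (hab : a ≠ b) (hbc : b ≠ c)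
    (hac : a ≠ c) : cyc a b c ∈ H := by
  obtain ⟨-, x, hax, hbx, hx⟩ := h1.resolve_left hab
  obtain ⟨-, y, hby, hcy, hy⟩ := h2.resolve_left hbc
  by_cases hxc : x = c
  · exact hxc ▸ hx
  by_cases hya : y = a
  · subst hya
    rw [cyc_rot hab hac hbc]; exact hy
  by_cases hyx : y = x
  · subst hyx
    have h := mul_mem (mul_mem hy hx) (inv_mem hy)
    rw [cyc_conj, cyc_apply_out hab hac (Ne.symm hya), cyc_apply_first hbc hby, cyc_apply_last]
      at h
    have := inv_mem h
    rw [cyc_inv] at this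
    rwa [← cyc_rot hab.symm.symm hac hbc, ] at this
  have h := mul_mem (mul_mem hy hx) (inv_mem hy)
  rw [cyc_conj, cyc_apply_out hab hac (Ne.symm hya), cyc_apply_first hbc hby,
    cyc_apply_out hbx.symm hxc (Ne.symm hyx)] at h
  have h' := mul_mem (mul_mem h hx) (inv_mem h)
  rw [cyc_conj, cyc_apply_first hac hax, cyc_apply_out hab.symm hbc hbx, cyc_apply_last] at h'
  have := inv_mem h'
  rwa [cyc_inv] at this

theorem Rel.trans {a b c : Fin n} (h1 : Rel H a b) (h2 : Rel H b c) : Rel H a c := by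
  by_cases hac : a = c
  · exact Or.inl hac
  by_cases hab : a = b
  · exact hab ▸ h2
  by_cases hbc : b = c
  · exact hbc ▸ h1
  refine Or.inr ⟨hac, b, hab, Ne.symm hbc, ?_⟩
  have := inv_mem (cyc_mem h1 h2 hab hbc hac)
  rw [cyc_inv] at this
  rwa [cyc_rot hac hab (Ne.symm hbc), cyc_rot (Ne.symm hbc) (Ne.symm hac) (Ne.symm hab)] at *

theorem swap_mul_swap_mem {a b c d : Fin n} (hab : Rel H a b) (hbc : Rel H b c) (hcd : Rel H c d)
    (h1 : a ≠ b) (h2 : c ≠ d) : swap a b * swap c d ∈ H := by
  have step : ∀ x y z : Fin n, Rel H x y → Rel H y z → x ≠ y → y ≠ z → swap x y * swap y z ∈ H := by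
    intro x y z hxy hyz h h'
    by_cases hxz : x = z
    · subst hxz
      rw [swap_comm y x, swap_mul_self]; exact one_mem H
    exact cyc_mem hxy hyz h h' hxz
  by_cases hbc' : b = c
  · subst hbc'
    exact step a b d hab hcd h1 h2
  have e : swap a b * swap c d = (swap a b * swap b c) * (swap b c * swap c d) := by
    rw [mul_assoc, swap_mul_self_mul]
  rw [e]
  exact mul_mem (step a b c hab hbc h1 hbc') (step b c d hbc hcd hbc' h2)

section Pairs

variable {m : ℕ} (e : Fin m × ZMod 2 ↪ Fin n)

/-- Paired points. -/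
def Pair (a b : Fin n) : Prop := ∃ i j, e (i, j) = a ∧ e (i, j + 1) = b

theorem zmod_two_add (j : ZMod 2) : j + 1 + 1 = j := by
  revert j; decide

variable {e}

theorem Pair.symm {a b : Fin n} (h : Pair e a b) : Pair e b a := by
  obtain ⟨i, j, h1, h2⟩ := h
  exact ⟨i, j + 1, h2, by rw [zmod_two_add]; exact h1⟩

theorem Pair.ne {a b : Fin n} (h : Pair e a b) : a ≠ b := by
  obtain ⟨i, j, rfl, rfl⟩ := h
  intro heq
  simpa using e.injective heq

theorem Pair.unique {a b b' : Fin n} (h : Pair e a b) (h' : Pair e a b') : b = b' := by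
  obtain ⟨i, j, h1, rfl⟩ := h
  obtain ⟨i', j', h1', rfl⟩ := h'
  have := e.injective (h1.trans h1'.symm)
  simp only [Prod.mk.injEq] at this
  rw [this.1, this.2]

theorem Pair.swap_eq {a b : Fin n} (h : Pair e a b) :
    ∃ i, swap a b = swap (e (i, 0)) (e (i, 1)) ∧ ∀ j, e (i, j) = a ∨ e (i, j) = b := by
  obtain ⟨i, j, rfl, rfl⟩ := h
  refine ⟨i, ?_, fun k => ?_⟩
  · fin_cases j
    · rfl
    · exact swap_comm _ _
  · fin_cases j <;> fin_cases k <;> first | exact Or.inl rfl | exact Or.inr rfl

theorem pair_or_pair (hm : m = n / 2) {a b : Fin n} (hab : a ≠ b) :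
    (∃ c, Pair e a c) ∨ ∃ c, Pair e b c := by
  classical
  by_contra hcon
  have hsub : ({a, b} : Finset (Fin n)) ⊆ Finset.univ \ Finset.univ.map e := by
    intro x hx
    simp only [Finset.mem_sdiff, Finset.mem_univ, true_and, Finset.mem_map]
    rintro ⟨⟨i, j⟩, rfl⟩
    simp only [Finset.mem_insert, Finset.mem_singleton] at hx
    rcases hx with h | h
    · exact hcon (Or.inl ⟨_, i, j, h, rfl⟩)
    · exact hcon (Or.inr ⟨_, i, j, h, rfl⟩)
  have := Finset.card_le_card hsub
  rw [Finset.card_pair hab, Finset.card_univ_sdiff, Finset.card_map, Finset.card_univ,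
    Fintype.card_fin, Fintype.card_prod, Fintype.card_fin, ZMod.card] at this
  omega

/-- The even products of pair exchanges. -/
def HasEven (H : Subgroup (Perm (Fin n))) (e : Fin m × ZMod 2 ↪ Fin n) : Prop :=
  ∀ i k, swap (e (i, 0)) (e (i, 1)) * swap (e (k, 0)) (e (k, 1)) ∈ H

theorem hasEven_of_shift
    (h : ∀ f, Perm.sign (shift e f) = 1 → shift e f ∈ H) : HasEven H e := by
  intro i k
  have hmul : shift e (Pi.single i 1 + Pi.single k 1)
      = shift e (Pi.single i 1) * shift e (Pi.single k 1) := by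
    rw [shift, shift, shift, ofAdd_add, map_mul]
  rw [← shift_single_two e i, ← shift_single_two e k, ← hmul]
  apply h
  have hne : ∀ l, e (l, 0) ≠ e (l, 1) := fun l hl => by simpa using e.injective hl
  rw [hmul, map_mul, shift_single_two, shift_single_two, Perm.sign_swap (hne i),
    Perm.sign_swap (hne k)]
  rfl

theorem HasEven.pair_mul (hE : HasEven H e) {a b c d : Fin n} (h : Pair e a b) (h' : Pair e c d) :
    swap a b * swap c d ∈ H := by
  obtain ⟨i, hi, -⟩ := h.swap_eq
  obtain ⟨k, hk, -⟩ := h'.swap_eq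
  rw [hi, hk]
  exact hE i k

theorem exists_pair_avoiding {a b : Fin n} (h : Pair e a b) (hm : 3 ≤ m) (v : Fin n) :
    ∃ c d, Pair e c d ∧ c ≠ a ∧ c ≠ b ∧ c ≠ v ∧ d ≠ a ∧ d ≠ b ∧ d ≠ v := by
  classical
  obtain ⟨i, j, rfl, rfl⟩ := h
  obtain ⟨k, hk⟩ := Finset.card_pos.1 (show 0 < (Finset.univ \
      ({i} ∪ (Finset.univ.filter fun k => ∃ l, e (k, l) = v))).card by
    have h1 : (Finset.univ.filter fun k => ∃ l, e (k, l) = v).card ≤ 1 := by
      rw [Finset.card_le_one]
      intro x hx y hy
      obtain ⟨l, hl⟩ := (Finset.mem_filter.1 hx).2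
      obtain ⟨l', hl'⟩ := (Finset.mem_filter.1 hy).2
      exact congrArg Prod.fst (e.injective (hl.trans hl'.symm))
    have := Finset.card_union_le ({i} : Finset (Fin m))
      (Finset.univ.filter fun k => ∃ l, e (k, l) = v)
    rw [Finset.card_univ_sdiff, Fintype.card_fin]
    rw [Finset.card_singleton] at this
    omega)
  simp only [Finset.mem_sdiff, Finset.mem_univ, true_and, Finset.mem_union, Finset.mem_singleton,
    Finset.mem_filter, not_or, not_exists] at hk
  have hne : ∀ l l', e (k, l) ≠ e (i, l') := fun l l' h => hk.1 (congrArg Prod.fst (e.injective h))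
  exact ⟨e (k, 0), e (k, 0 + 1), ⟨k, 0, rfl, rfl⟩, hne _ _, hne _ _, hk.2 _, hne _ _, hne _ _,
    hk.2 _⟩

/-- Without elements of order three, involutions permute the pairs they meet. -/
theorem partner_moved (hE : HasEven H e) (hm : 3 ≤ m) (h3 : ¬ 3 ∣ Nat.card H)
    {x : Perm (Fin n)} (hx : x ∈ H) {u u' : Fin n} (hinv : x (x u) = u) (hu : x u ≠ u)
    (hp : Pair e u u') : x u' ≠ u' := by
  intro hfix
  obtain ⟨c, d, hcd, hcu, hcu', hcv, hdu, hdu', hdv⟩ := exists_pair_avoiding hp hm (x u)
  have hy : x * (swap u u' * swap c d) ∈ H := mul_mem hx (hE.pair_mul hp hcd)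
  have e1 : (x * (swap u u' * swap c d)) u = u' := by
    rw [Perm.mul_apply, Perm.mul_apply, swap_apply_of_ne_of_ne hcu.symm hdu.symm, swap_apply_left,
      hfix]
  have e2 : (x * (swap u u' * swap c d)) u' = x u := by
    rw [Perm.mul_apply, Perm.mul_apply, swap_apply_of_ne_of_ne hcu'.symm hdu'.symm,
      swap_apply_right]
  have hvu' : x u ≠ u' := fun h => by
    have := congrArg x h
    rw [hinv, hfix] at this
    exact hu (h.trans this.symm)
  have e3 : (x * (swap u u' * swap c d)) (x u) = u := by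
    rw [Perm.mul_apply, Perm.mul_apply, swap_apply_of_ne_of_ne hcv.symm hdv.symm,
      swap_apply_of_ne_of_ne hu hvu', hinv]
  refine h3 (prime_dvd_card_of_periodic hy Nat.prime_three (u := u) ?_ ?_)
  · rw [pow_succ, sq]
    simp only [Perm.mul_apply] at e1 e2 e3 ⊢
    rw [e1, e2, e3]
  · rw [e1]; exact hp.ne.symm

/-- Without elements of order three, the group preserves the pairing. -/
theorem pair_map (hE : HasEven H e) (hm : 3 ≤ m) (hm' : m = n / 2) (h3 : ¬ 3 ∣ Nat.card H)
    {h : Perm (Fin n)} (hh : h ∈ H) {a b : Fin n} (hab : Pair e a b) : Pair e (h a) (h b) := by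
  have key : ∀ {a b c : Fin n}, Pair e a b → Pair e (h a) c → c = h b := by
    intro a b c hab hac
    obtain ⟨p, q, hpq, hpa, hpb, -, hqa, hqb, -⟩ := exists_pair_avoiding hab hm a
    obtain ⟨p', q', hpq', hpa', hpb', hp'p, hqa', hqb', hq'p⟩ := exists_pair_avoiding hab hm p
    by_contra hc
    have hmem : ∀ {p q : Fin n}, Pair e p q → p ≠ a → q ≠ a → c = h p ∨ c = h q := by
      intro p q hpq hpa hqa
      set x := h * (swap a b * swap p q) * h⁻¹ with hx
      have hxH : x ∈ H := mul_mem (mul_mem hh (hE.pair_mul hab hpq)) (inv_mem hh)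
      have hxe : x = swap (h a) (h b) * swap (h p) (h q) := by
        rw [hx, ← swap_conj, ← swap_conj]; group
      have hxa : x (h a) = h b := by
        rw [hxe, Perm.mul_apply, swap_apply_of_ne_of_ne (h.injective.ne hpa.symm)
          (h.injective.ne hqa.symm), swap_apply_left]
      have hxb : x (h b) = h a ∨ (h b = h p ∨ h b = h q) := by
        by_cases h1 : h b = h p
        · exact Or.inr (Or.inl h1)
        by_cases h2 : h b = h q
        · exact Or.inr (Or.inr h2)
        exact Or.inl (by rw [hxe, Perm.mul_apply, swap_apply_of_ne_of_ne h1 h2, swap_apply_right])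
      by_contra hno
      push Not at hno
      rcases hxb with hxb | hxb
      · apply partner_moved hE hm h3 hxH (u := h a) (by rw [hxa, hxb])
          (by rw [hxa]; exact h.injective.ne hab.ne.symm) hac
        rw [hxe, Perm.mul_apply, swap_apply_of_ne_of_ne hno.1 hno.2,
          swap_apply_of_ne_of_ne hac.ne.symm hc]
      · rcases hxb with h1 | h1 <;> have h2 := h.injective h1
        · subst h2; exact hqa (Pair.unique hpq hab.symm)
        · subst h2; exact hpa (Pair.unique hpq.symm hab.symm)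
    rcases hmem hpq hpa hqa with h1 | h1 <;> rcases hmem hpq' hpa' hqa' with h2 | h2 <;>
      rw [h1] at h2 <;> have h2' := h.injective h2
    · exact hp'p h2'.symm
    · exact hq'p h2'.symm
    · subst h2'
      exact hq'p (Pair.unique hpq' hpq.symm)
    · subst h2'
      exact hp'p (Pair.unique hpq'.symm hpq.symm)
  rcases pair_or_pair (e := e) hm' (h.injective.ne hab.ne) with ⟨c, hc⟩ | ⟨c, hc⟩
  · exact key hab hc ▸ hc
  · exact (key hab.symm hc ▸ hc).symm

/-- Without elements of order three there is no cycle of odd prime length. -/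
theorem no_odd_cycle (hE : HasEven H e) (hm : 3 ≤ m) (hm' : m = n / 2) (h3 : ¬ 3 ∣ Nat.card H)
    {q : ℕ} [Fact q.Prime] (hq : q ≠ 2) (x : ZMod q ↪ Fin n) {c : Perm (Fin n)} (hcH : c ∈ H)
    (hc : ∀ j, c (x j) = x (j + 1)) (hout : ∀ a, a ∉ Set.range x → c a = a) : False := by
  obtain ⟨j, b, hb⟩ : ∃ j b, Pair e (x j) b := by
    rcases pair_or_pair (e := e) hm' (x.injective.ne (zero_ne_one (α := ZMod q))) with h | h
    · exact ⟨_, h⟩
    · exact ⟨_, h⟩
  by_cases hr : b ∈ Set.range x
  · obtain ⟨i, rfl⟩ := hr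
    have hd := pair_map hE hm hm' h3 (pow_mem hcH (i - j).val) hb
    rw [cycle_pow_apply (x := ⇑x) hc, cycle_pow_apply (x := ⇑x) hc, ZMod.natCast_rightInverse,
      add_sub_cancel] at hd
    have := x.injective (hd.unique hb.symm)
    have h2 : (2 : ZMod q) * (i - j) = 0 := by linear_combination this
    rcases mul_eq_zero.1 h2 with h | h
    · apply hq
      have : ((2 : ℕ) : ZMod q) = 0 := by exact_mod_cast h
      rw [ZMod.natCast_eq_zero_iff] at this
      exact (Nat.prime_dvd_prime_iff_eq Fact.out Nat.prime_two).1 this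
    · exact hb.ne (by rw [sub_eq_zero.1 h])
  · have hd := pair_map hE hm hm' h3 hcH hb
    rw [hc, hout b hr] at hd
    have := x.injective (hb.symm.unique hd.symm)
    simp at this

/-- With a three-cycle, an odd element normalises the group. -/
theorem exists_odd_normalising (hE : HasEven H e) (hm : 2 ≤ m) (hm' : m = n / 2)
    (h3c : ∃ a b c : Fin n, a ≠ b ∧ a ≠ c ∧ b ≠ c ∧ cyc a b c ∈ H) :
    ∃ s : Perm (Fin n), Perm.sign s = -1 ∧ s * s = 1 ∧ ∀ h ∈ H, s * h * s ∈ H := by
  -- pairs lie in the classes of size at least three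
  have inPair : ∀ {a a' : Fin n}, Pair e a a' → ∀ {b c : Fin n}, Rel H a b → Rel H a c → a ≠ b →
      a ≠ c → b ≠ c → Rel H a a' := by
    intro a a' hp b c hab hac h1 h2 h3
    by_contra hno
    obtain ⟨i, j, hi, hi'⟩ := id hp
    haveI : Nontrivial (Fin m) := Fin.nontrivial_iff_two_le.2 hm
    obtain ⟨k, hk⟩ := exists_ne i
    set p := e (k, (0 : ZMod 2)) with hp'
    set q := e (k, (0 : ZMod 2) + 1) with hq'
    have hpq : Pair e p q := ⟨k, 0, rfl, rfl⟩
    have hne : ∀ l, e (k, l) ≠ a ∧ e (k, l) ≠ a' := fun l =>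
      ⟨fun h => hk (congrArg Prod.fst (e.injective (h.trans hi.symm))),
        fun h => hk (congrArg Prod.fst (e.injective (h.trans hi'.symm)))⟩
    have ht := hE.pair_mul hp hpq
    have hta : (swap a a' * swap p q) a = a' := by
      rw [Perm.mul_apply, swap_apply_of_ne_of_ne (hne _).1.symm (hne _).1.symm, swap_apply_left]
    have htout : ∀ y, Rel H a y → y ≠ a → y ≠ p → y ≠ q → False := by
      intro y hy hya hyp hyq
      have := hy.map ht
      rw [hta, Perm.mul_apply, swap_apply_of_ne_of_ne hyp hyq, swap_apply_of_ne_of_ne hya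
        (fun h => hno (by rw [← h]; exact hy))] at this
      exact hno (hy.trans this.symm)
    have hbpq : b = p ∨ b = q := by
      by_contra h; push Not at h
      exact htout b hab h1.symm h.1 h.2
    have hcpq : c = p ∨ c = q := by
      by_contra h; push Not at h
      exact htout c hac h2.symm h.1 h.2
    have hboth : Rel H a p ∧ Rel H a q := by
      rcases hbpq with rfl | rfl <;> rcases hcpq with rfl | rfl
      · exact absurd rfl h3
      · exact ⟨hab, hac⟩
      · exact ⟨hac, hab⟩
      · exact absurd rfl h3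
    have := hboth.1.map ht
    rw [hta, Perm.mul_apply, swap_apply_left, swap_apply_of_ne_of_ne (hne _).1 (hne _).2] at this
    exact hno (hboth.2.trans this.symm)
  obtain ⟨a, a', hp, b, c, hab, hac, h1, h2, h3⟩ : ∃ a a', Pair e a a' ∧
      ∃ b c, Rel H a b ∧ Rel H a c ∧ a ≠ b ∧ a ≠ c ∧ b ≠ c := by
    obtain ⟨a, b, c, hab, hac, hbc, hc⟩ := h3c
    have rab : Rel H a b := Or.inr ⟨hab, c, hac, hbc, hc⟩
    have rbc : Rel H b c := Or.inr ⟨hbc, a, hab.symm, hac.symm, by rwa [← cyc_rot hab hac hbc]⟩
    rcases pair_or_pair (e := e) hm' hab with ⟨a', h⟩ | ⟨b', h⟩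
    · exact ⟨a, a', h, b, c, rab, rab.trans rbc, hab, hac, hbc⟩
    · exact ⟨b, b', h, a, c, rab.symm, rbc, hab.symm, hbc, hac⟩
  refine ⟨swap a a', Perm.sign_swap hp.ne, swap_mul_self _ _, fun h hh => ?_⟩
  have raa := inPair hp hab hac h1 h2 h3
  -- the image class has a pair as well
  obtain ⟨z, z', hz, rz, rzz⟩ : ∃ z z', Pair e z z' ∧ Rel H (h a) z ∧ Rel H z z' := by
    rcases pair_or_pair (e := e) hm' (h.injective.ne h1) with ⟨z', hz⟩ | ⟨z', hz⟩
    · exact ⟨h a, z', hz, Or.inl rfl, inPair hz (hab.map hh) (hac.map hh) (h.injective.ne h1)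
        (h.injective.ne h2) (h.injective.ne h3)⟩
    · exact ⟨h b, z', hz, hab.map hh, inPair hz (hab.map hh).symm ((hab.symm.trans hac).map hh)
        (h.injective.ne h1.symm) (h.injective.ne h3) (h.injective.ne h2)⟩
  have h4 : swap (h a) (h a') * swap z z' ∈ H :=
    swap_mul_swap_mem (raa.map hh) ((raa.map hh).symm.trans rz) rzz
      (h.injective.ne hp.ne) hz.ne
  have h5 := mul_mem h4 (hE.pair_mul hz hp)
  rw [mul_assoc, swap_mul_self_mul, ← swap_conj] at h5
  -- `h * s * h⁻¹ * s ∈ H`
  have h6 := mul_mem (inv_mem h5) hh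
  rw [_root_.mul_inv_rev, _root_.mul_inv_rev, _root_.mul_inv_rev, inv_inv, swap_inv] at h6
  simpa [mul_assoc] using h6

end Pairs

/-- **Extension to the symmetric group.** -/
theorem exists_extension {π : Set ℕ} {M : Subgroup ↥(alternatingGroup (Fin n))}
    (hM : Cfsg.IsPiHall π M) :
    ∃ M₀ : Subgroup (Perm (Fin n)), Cfsg.IsPiHall π M₀ ∧
      M = M₀.subgroupOf (alternatingGroup (Fin n)) := by
  classical
  set H := M.map (alternatingGroup (Fin n)).subtype with hH
  have hHA : H ≤ (alternatingGroup (Fin n)) := Subgroup.map_subtype_le M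
  have hsub : M = H.subgroupOf (alternatingGroup (Fin n)) := by
    rw [hH, Subgroup.subgroupOf, Subgroup.comap_map_eq_self_of_injective (alternatingGroup (Fin n)).subtype_injective]
  have hcard : Nat.card H = Nat.card M := Subgroup.card_map_of_injective (alternatingGroup (Fin n)).subtype_injective
  have hn! : Nat.card (Perm (Fin n)) = n ! := by
    rw [Nat.card_eq_fintype_card, Fintype.card_perm, Fintype.card_fin]
  have hidx : H.index = M.index * (alternatingGroup (Fin n)).index := by
    rw [hH, Subgroup.index_map_subtype]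
  rcases Nat.lt_or_ge n 2 with hn2 | hn2
  · refine ⟨H, ⟨fun p hp hd => hM.1 p hp (hcard ▸ hd), fun p hp _ hd => ?_⟩, hsub⟩
    have := hd.trans (Subgroup.index_dvd_card H)
    rw [hn!, Nat.factorial_eq_one.2 (by omega)] at this
    exact hp.not_dvd_one this
  haveI : Nontrivial (Fin n) := Fin.nontrivial_iff_two_le.2 hn2
  have hA2 : (alternatingGroup (Fin n)).index = 2 := by
    have h1 := (alternatingGroup (Fin n)).card_mul_index
    rw [← two_mul_nat_card_alternatingGroup (α := Fin n), mul_comm 2] at h1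
    exact Nat.eq_of_mul_eq_mul_left Nat.card_pos h1
  by_cases h2π : 2 ∈ π
  swap
  · refine ⟨H, ⟨fun p hp hd => hM.1 p hp (hcard ▸ hd), fun p hp hpπ hd => ?_⟩, hsub⟩
    rw [hidx, hA2] at hd
    rcases hp.dvd_mul.1 hd with h | h
    · exact hM.2 p hp hpπ h
    · exact h2π ((Nat.prime_dvd_prime_iff_eq hp Nat.prime_two).1 h ▸ hpπ)
  by_cases hall : ∀ r : ℕ, r.Prime → r ≤ n → r ∈ π
  · refine ⟨⊤, (hall_top_iff (fun r hr hd => hall r hr ?_) ⊤).2 rfl, ?_⟩
    · rw [hn!] at hd
      exact hr.dvd_factorial.1 hd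
    · rw [(hall_top_iff (fun r hr hd => hall r hr ?_) M).1 hM, Subgroup.subgroupOf]
      · exact (Subgroup.comap_top _).symm
      · have := hd.trans (Subgroup.card_subgroup_dvd_card (alternatingGroup (Fin n)))
        rw [hn!] at this
        exact hr.dvd_factorial.1 this
  push Not at hall
  by_cases hodd : ∀ q : ℕ, q.Prime → q ∈ π → q ≤ n → q = 2
  · -- only the prime two
    have hHp : IsPGroup 2 H := IsPGroup.of_card (Nat.eq_prime_pow_of_unique_prime_dvd
      Nat.card_pos.ne' fun {r} hr hrd => hodd r hr (hM.1 r hr (hcard ▸ hrd))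
        (hr.dvd_factorial.1 (by rw [← hn!]; exact hrd.trans H.card_subgroup_dvd_card)))
    obtain ⟨P, hP⟩ := hHp.exists_le_sylow
    have hPπ : Cfsg.IsPiSubgroup π P.toSubgroup := by
      intro r hr hrd
      obtain ⟨k, hk⟩ := IsPGroup.iff_card.1 P.isPGroup'
      rw [hk] at hrd
      rwa [(Nat.prime_dvd_prime_iff_eq hr Nat.prime_two).1 (hr.dvd_of_dvd_pow hrd)]
    refine ⟨P.toSubgroup, ⟨hPπ, fun r hr hrπ hrd => ?_⟩, hall_eq_of_le hM ?_ ?_⟩
    · obtain rfl := hodd r hr hrπ
        (hr.dvd_factorial.1 (by rw [← hn!]; exact hrd.trans (Subgroup.index_dvd_card _)))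
      exact P.not_dvd_index hrd
    · rw [hsub]; exact Subgroup.comap_mono hP
    · intro r hr hrd
      refine hPπ r hr (hrd.trans ?_)
      rw [← Subgroup.card_map_of_injective (alternatingGroup (Fin n)).subtype_injective]
      exact Subgroup.card_dvd_of_le (Subgroup.map_comap_le _ _)
  push Not at hodd
  obtain ⟨q, hq, hqπ, hqn, hq2⟩ := hodd
  obtain ⟨r, hr, hrn, hrπ⟩ := hall
  have hn3 : 3 ≤ n := by have := hq.two_le; omega
  have hid : ∀ g x : Perm (Fin n), x ∈ (alternatingGroup (Fin n)).subtype.range → g * x * g⁻¹ ∈ (alternatingGroup (Fin n)).subtype.range := by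
    intro g x hx
    rw [Subgroup.range_subtype] at hx ⊢
    exact (inferInstance : (alternatingGroup (Fin n)).Normal).conj_mem x hx g
  obtain ⟨e, he⟩ := exists_shift_mem (alternatingGroup (Fin n)).subtype (alternatingGroup (Fin n)).subtype_injective hid hM Nat.prime_two h2π
    (Nat.div_mul_le_self n 2)
  have hE : HasEven H e := hasEven_of_shift fun f hf => he f (by
    rw [Subgroup.range_subtype]; exact Perm.mem_alternatingGroup.2 hf)
  have heven : ∀ (p : ℕ) (e' : Fin 1 × ZMod p ↪ Fin n) (f : Fin 1 → ZMod p), p ≠ 2 → p.Prime →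
      shift e' f ∈ (alternatingGroup (Fin n)).subtype.range := by
    intro p e' f hp2 hp
    rw [Subgroup.range_subtype, Perm.mem_alternatingGroup]
    have hpow : shift e' f ^ p = 1 := by
      rw [shift, ← map_pow, ← ofAdd_nsmul]
      have : p • f = 0 := by ext i; simp [ZMod.natCast_self]
      rw [this, ofAdd_zero, map_one]
    rcases Int.units_eq_one_or (Perm.sign (shift e' f)) with h | h
    · exact h
    · have := congrArg Perm.sign hpow
      rw [map_pow, h, map_one, (hp.odd_of_ne_two hp2).neg_one_pow] at this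
      exact absurd this (by decide)
  by_cases h3π : 3 ∈ π
  · obtain ⟨e3, he3⟩ := exists_shift_mem (alternatingGroup (Fin n)).subtype (alternatingGroup (Fin n)).subtype_injective hid hM Nat.prime_three h3π
      (m := 1) (by omega)
    have hc := he3 (Pi.single 0 1) (heven 3 e3 _ (by norm_num) Nat.prime_three)
    have hn4 : 4 ≤ n := by
      rcases eq_or_ne r 2 with rfl | h
      · exact absurd h2π hrπ
      rcases eq_or_ne r 3 with rfl | h'
      · exact absurd h3π hrπ
      · have := hr.two_le; omega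
    have hcyc : shift e3 (Pi.single 0 1) = cyc (e3 (0, 0)) (e3 (0, 1)) (e3 (0, 2)) := by
      have d01 : e3 (0, 0) ≠ e3 (0, 1) := e3.injective.ne (by decide)
      have d02 : e3 (0, 0) ≠ e3 (0, 2) := e3.injective.ne (by decide)
      have d12 : e3 (0, 1) ≠ e3 (0, 2) := e3.injective.ne (by decide)
      ext x
      congr 1
      by_cases h0 : x = e3 (0, 0)
      · subst h0; rw [shift_single_apply, cyc_apply_first d01 d02]; rfl
      by_cases h1 : x = e3 (0, 1)
      · subst h1; rw [shift_single_apply, cyc_apply_mid d02 d12]; rfl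
      by_cases h2 : x = e3 (0, 2)
      · subst h2; rw [shift_single_apply, cyc_apply_last]; rfl
      rw [cyc_apply_out h0 h1 h2, shift_single_out]
      intro j hj
      fin_cases j
      · exact h0 hj.symm
      · exact h1 hj.symm
      · exact h2 hj.symm
    obtain ⟨s, hs, hss, hsH⟩ := exists_odd_normalising hE (by omega) rfl
      ⟨_, _, _, e3.injective.ne (by decide), e3.injective.ne (by decide),
        e3.injective.ne (by decide), hcyc ▸ hc⟩
    -- adjoin `s`
    let M₀ : Subgroup (Perm (Fin n)) :=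
      { carrier := {g | g ∈ H ∨ g * s ∈ H}
        one_mem' := Or.inl (one_mem H)
        mul_mem' := by
          rintro g h (hg | hg) (hh | hh)
          · exact Or.inl (mul_mem hg hh)
          · exact Or.inr (by rw [mul_assoc]; exact mul_mem hg hh)
          · refine Or.inr ?_
            have := mul_mem hg (hsH h hh)
            rwa [show g * s * (s * h * s) = g * (s * s) * h * s by group, hss, mul_one] at this
          · refine Or.inl ?_
            have := mul_mem hg (hsH (h * s) hh)
            rwa [show g * s * (s * (h * s) * s) = g * (s * s) * h * (s * s) by group, hss, mul_one,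
              mul_one] at this
        inv_mem' := by
          rintro g (hg | hg)
          · exact Or.inl (inv_mem hg)
          · refine Or.inr ?_
            have := hsH _ (inv_mem hg)
            rwa [_root_.mul_inv_rev, show s * (s⁻¹ * g⁻¹) * s = g⁻¹ * s by group] at this }
    have hle : H ≤ M₀ := fun g hg => Or.inl hg
    have hsA : ∀ g, g ∈ H → Perm.sign g = 1 := fun g hg => Perm.mem_alternatingGroup.1 (hHA hg)
    have hM₀A : ∀ g, g ∈ M₀ → Perm.sign g = 1 → g ∈ H := by
      rintro g (hg | hg) h1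
      · exact hg
      · have := hsA _ hg
        rw [map_mul, h1, hs] at this
        exact absurd this (by decide)
    have hrel : (H.subgroupOf M₀).index = 2 := by
      rw [Subgroup.index_eq_two_iff]
      refine ⟨⟨s, Or.inr (by rw [hss]; exact one_mem H)⟩, fun g => ?_⟩
      simp only [Subgroup.mem_subgroupOf, Subgroup.coe_mul]
      rcases g.2 with hg | hg
      · refine Or.inr ⟨hg, fun h => ?_⟩
        have h1 := hsA _ h
        rw [map_mul, hs, hsA _ hg] at h1
        exact absurd h1 (by decide)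
      · refine Or.inl ⟨hg, fun h => ?_⟩
        have h1 := hsA _ hg
        rw [map_mul, hs, hsA _ h] at h1
        exact absurd h1 (by decide)
    have hcard₀ : Nat.card M₀ = Nat.card H * 2 := by
      rw [← (H.subgroupOf M₀).card_mul_index, hrel,
        Nat.card_congr (Subgroup.subgroupOfEquivOfLe hle).toEquiv]
    refine ⟨M₀, ⟨fun p hp hd => ?_, fun p hp hpπ hd => ?_⟩, ?_⟩
    · rw [hcard₀] at hd
      rcases hp.dvd_mul.1 hd with h | h
      · exact hM.1 p hp (hcard ▸ h)
      · exact (Nat.prime_dvd_prime_iff_eq hp Nat.prime_two).1 h ▸ h2π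
    · have h1 := M₀.card_mul_index
      rw [← H.card_mul_index, hcard₀, hidx, hA2, mul_assoc] at h1
      have h2 := Nat.eq_of_mul_eq_mul_left Nat.card_pos h1
      have h3 : M₀.index = M.index := by omega
      exact hM.2 p hp hpπ (h3 ▸ hd)
    · rw [hsub]
      ext g
      simp only [Subgroup.mem_subgroupOf]
      exact ⟨fun h => hle h, fun h => hM₀A _ h g.2⟩
  · exfalso
    haveI : Fact q.Prime := ⟨hq⟩
    have hq5 : 5 ≤ q := by
      have := hq.two_le
      have : q ≠ 3 := fun h => h3π (h ▸ hqπ)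
      have : q ≠ 4 := fun h => absurd (h ▸ hq) (by norm_num)
      omega
    have h3H : ¬ 3 ∣ Nat.card H := fun h => h3π (hM.1 3 Nat.prime_three (hcard ▸ h))
    rcases Nat.lt_or_ge n 6 with hn6 | hn6
    · -- degree five
      obtain rfl : n = 5 := by omega
      obtain rfl : q = 5 := by omega
      have hA60 : Nat.card (alternatingGroup (Fin 5)) = 60 := by
        rw [nat_card_alternatingGroup, Nat.card_eq_fintype_card, Fintype.card_fin]; rfl
      have hd3 : M.index ∣ 60 := hA60 ▸ Subgroup.index_dvd_card M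
      have h3i : 3 ∣ M.index := by
        have h1 := M.card_mul_index
        rw [hA60] at h1
        have h3' : 3 ∣ Nat.card M * M.index := h1 ▸ (by norm_num)
        exact (Nat.prime_three.dvd_mul.1 h3').resolve_left (hcard ▸ h3H)
      have hi : M.index = 3 := by
        obtain ⟨t, ht⟩ := h3i
        have n2 : ¬ 2 ∣ M.index := hM.2 2 Nat.prime_two h2π
        have n5 : ¬ 5 ∣ M.index := hM.2 5 (by norm_num) hqπ
        have hdiv : M.index ∈ Nat.divisors 60 := Nat.mem_divisors.2 ⟨hd3, by norm_num⟩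
        have : ∀ d ∈ Nat.divisors 60, ¬ 2 ∣ d → ¬ 5 ∣ d → 3 ∣ d → d = 3 := by decide +kernel
        exact this _ hdiv n2 n5 ⟨t, ht⟩
      haveI := alternatingGroup.isSimpleGroup_five
      rcases (Subgroup.normalCore_normal M).eq_bot_or_eq_top with hN | hN
      · have h1 : Nat.card (↥(alternatingGroup (Fin 5)) ⧸ M.normalCore) ∣ Nat.card (Perm (↥(alternatingGroup (Fin 5)) ⧸ M)) := by
          rw [Subgroup.normalCore_eq_ker]
          rw [Nat.card_congr (QuotientGroup.quotientKerEquivRange _).toEquiv]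
          exact Subgroup.card_subgroup_dvd_card _
        rw [hN, Nat.card_congr QuotientGroup.quotientBot.toEquiv, hA60, Nat.card_perm,
          ← Subgroup.index_eq_card, hi] at h1
        norm_num [Nat.factorial] at h1
      · have := Subgroup.normalCore_le M
        rw [hN, top_le_iff] at this
        rw [this, Subgroup.index_top] at hi
        omega
    · obtain ⟨eq', heq'⟩ := exists_shift_mem (alternatingGroup (Fin n)).subtype (alternatingGroup (Fin n)).subtype_injective hid hM hq hqπ
        (m := 1) (by omega)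
      exact no_odd_cycle hE (by omega) rfl h3H hq2 (rowEmb eq' 0)
        (heq' (Pi.single 0 1) (heven q eq' _ hq2 hq)) (fun j => shift_single_apply eq' 0 j)
        (fun a ha => shift_single_out eq' 0 fun j hj => ha ⟨j, hj⟩)

end Cfsg.Agent.Small.HallSym
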