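import Mathlib
import Cfsg.Prelude.Def_HallClasses

/-!
Generalities on Hall subgroups, and tools for permutation groups: shifts along disjoint cycles,
colour stabilisers, periodic points.
-/

set_option autoImplicit false

namespace Cfsg.Agent.Small.HallSym

open Equiv
open scoped Nat

universe u

section General

variable {G : Type u} [Group G] [Finite G] {π : Set ℕ}

omit [Finite G] in
theorem card_map_conj (H : Subgroup G) (g : G) :
    Nat.card ↥(H.map (MulAut.conj g).toMonoidHom) = Nat.card H :=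
  Subgroup.card_map_of_injective (MulAut.conj g).injective

theorem index_map_conj (H : Subgroup G) (g : G) :
    (H.map (MulAut.conj g).toMonoidHom).index = H.index := by
  have h1 := (H.map (MulAut.conj g).toMonoidHom).card_mul_index
  rw [card_map_conj, ← H.card_mul_index] at h1
  exact Nat.eq_of_mul_eq_mul_left Nat.card_pos h1

/-- A Hall subgroup is maximal among `π`-subgroups. -/
theorem hall_eq_of_le {H K : Subgroup G} (hH : Cfsg.IsPiHall π H) (hHK : H ≤ K)
    (hK : Cfsg.IsPiSubgroup π K) : H = K := by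
  refine le_antisymm hHK (Subgroup.relIndex_eq_one.1 ?_)
  by_contra hne
  obtain ⟨p, hp, hd⟩ := Nat.exists_prime_and_dvd hne
  exact hH.2 p hp (hK p hp (hd.trans (Subgroup.relIndex_dvd_card _ _)))
    (hd.trans (Subgroup.relIndex_dvd_index_of_le hHK))

theorem hall_maximal {H : Subgroup G} (hH : Cfsg.IsPiHall π H) :
    Maximal (Cfsg.IsPiSubgroup π) H :=
  ⟨hH.1, fun _K hK hHK => (hall_eq_of_le hH hHK hK).ge⟩

theorem exists_maximal_ge {K : Subgroup G} (hK : Cfsg.IsPiSubgroup π K) :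
    ∃ M : Subgroup G, Maximal (Cfsg.IsPiSubgroup π) M ∧ K ≤ M := by
  obtain ⟨M, hKM, hM⟩ :=
    Set.Finite.exists_le_maximal (Set.toFinite {M : Subgroup G | Cfsg.IsPiSubgroup π M}) hK
  exact ⟨M, hM, hKM⟩

/-- A Hall subgroup contains a conjugate of every `p`-subgroup, `p ∈ π`. -/
theorem exists_conj_mem {H : Subgroup G} (hH : Cfsg.IsPiHall π H) {p : ℕ} (hp : p.Prime)
    (hpπ : p ∈ π) {K : Subgroup G} (hK : IsPGroup p K) :
    ∃ g : G, ∀ x ∈ K, g * x * g⁻¹ ∈ H := by
  haveI : Fact p.Prime := ⟨hp⟩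
  obtain ⟨P⟩ := (inferInstance : Nonempty (Sylow p ↥H))
  have hPH : P.toSubgroup.map H.subtype ≤ H := Subgroup.map_subtype_le _
  have hcard : Nat.card ↥(P.toSubgroup.map H.subtype) = p ^ (Nat.card G).factorization p := by
    rw [Subgroup.card_map_of_injective H.subtype_injective, P.card_eq_multiplicity]
    congr 1
    rw [← H.card_mul_index, Nat.factorization_mul Nat.card_pos.ne' Subgroup.index_ne_zero_of_finite,
      Finsupp.add_apply, Nat.factorization_eq_zero_of_not_dvd (hH.2 p hp hpπ), add_zero]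
  obtain ⟨Q, hQ⟩ := hK.exists_le_sylow
  let P' : Sylow p G := Sylow.ofCard _ hcard
  obtain ⟨g, hg⟩ := MulAction.exists_smul_eq G Q P'
  refine ⟨g, fun x hx => hPH ?_⟩
  have hP' : P'.toSubgroup = P.toSubgroup.map H.subtype := Sylow.coe_ofCard _ _
  have hmem : g * x * g⁻¹ ∈ (g • Q : Sylow p G).toSubgroup := by
    rw [Sylow.coe_subgroup_smul, Subgroup.mem_pointwise_smul_iff_inv_smul_mem, MulAut.smul_def,
      MulAut.inv_apply, MulAut.conj_symm_apply]
    have e : g⁻¹ * (g * x * g⁻¹) * g = x := by group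
    rw [e]
    exact hQ hx
  rw [hg, hP'] at hmem
  exact hmem

/-- If at most one prime of `π` divides the order, everything works. -/
theorem dPi_of_subsingleton
    (h : ∀ r s : ℕ, r.Prime → s.Prime → r ∈ π → s ∈ π → r ∣ Nat.card G → s ∣ Nat.card G → r = s) :
    Cfsg.IsDPiGroup π G ∧ Cfsg.IsCPiGroup π G := by
  by_cases hex : ∃ p : ℕ, p.Prime ∧ p ∈ π ∧ p ∣ Nat.card G
  · obtain ⟨p, hp, hpπ, hpd⟩ := hex
    haveI : Fact p.Prime := ⟨hp⟩
    have hsub : ∀ K : Subgroup G, Cfsg.IsPiSubgroup π K ↔ IsPGroup p K := by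
      intro K
      constructor
      · intro hK
        exact IsPGroup.of_card (Nat.eq_prime_pow_of_unique_prime_dvd Nat.card_pos.ne'
          fun {r} hr hrd =>
            h r p hr hp (hK r hr hrd) hpπ (hrd.trans K.card_subgroup_dvd_card) hpd)
      · intro hK r hr hrd
        obtain ⟨k, hk⟩ := IsPGroup.iff_card.1 hK
        rw [hk] at hrd
        rwa [(Nat.prime_dvd_prime_iff_eq hr hp).1 (hr.dvd_of_dvd_pow hrd)]
    have hsyl : ∀ M : Subgroup G, Maximal (Cfsg.IsPiSubgroup π) M →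
        ∃ P : Sylow p G, P.toSubgroup = M := by
      intro M hM
      obtain ⟨P, hP⟩ := ((hsub M).1 hM.1).exists_le_sylow
      exact ⟨P, le_antisymm (hM.2 ((hsub _).2 P.isPGroup') hP) hP⟩
    have hD : Cfsg.IsDPiGroup π G := by
      intro H K hH hK
      obtain ⟨P, rfl⟩ := hsyl H hH
      obtain ⟨Q, rfl⟩ := hsyl K hK
      obtain ⟨g, hg⟩ := MulAction.exists_smul_eq G P Q
      refine ⟨g, ?_⟩
      rw [← hg, Sylow.coe_subgroup_smul]
      rfl
    obtain ⟨P⟩ := (inferInstance : Nonempty (Sylow p G))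
    refine ⟨hD, ⟨P.toSubgroup, (hsub _).2 P.isPGroup', ?_⟩,
      fun H K hH hK => hD H K (hall_maximal hH) (hall_maximal hK)⟩
    intro r hr hrπ hrd
    rw [h r p hr hp hrπ hpπ (hrd.trans (Subgroup.index_dvd_card _)) hpd] at hrd
    exact P.not_dvd_index hrd
  · push Not at hex
    have hbot : ∀ K : Subgroup G, Cfsg.IsPiSubgroup π K → K = ⊥ := by
      intro K hK
      rw [← Subgroup.card_eq_one]
      by_contra hne
      obtain ⟨r, hr, hd⟩ := Nat.exists_prime_and_dvd hne
      exact hex r hr (hK r hr hd) (hd.trans K.card_subgroup_dvd_card)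
    refine ⟨fun H K hH hK => ⟨1, ?_⟩, ⟨⊥, ?_, ?_⟩, fun H K hH hK => ⟨1, ?_⟩⟩
    · rw [hbot H hH.1, hbot K hK.1, Subgroup.map_bot]
    · intro r hr hd
      rw [Subgroup.card_bot] at hd
      exact absurd hd hr.not_dvd_one
    · intro r hr hrπ hd
      exact hex r hr hrπ (hd.trans (Subgroup.index_dvd_card _))
    · rw [hbot H hH.1, hbot K hK.1, Subgroup.map_bot]

theorem hall_top_iff
    (h : ∀ r : ℕ, r.Prime → r ∣ Nat.card G → r ∈ π) (H : Subgroup G) :
    Cfsg.IsPiHall π H ↔ H = ⊤ := by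
  constructor
  · intro hH
    exact hall_eq_of_le hH le_top (fun r hr hd => h r hr (by rwa [Subgroup.card_top] at hd))
  · rintro rfl
    refine ⟨fun r hr hd => h r hr (by rwa [Subgroup.card_top] at hd), fun r hr _ hd => ?_⟩
    rw [Subgroup.index_top] at hd
    exact hr.not_dvd_one hd

theorem dPi_of_all (h : ∀ r : ℕ, r.Prime → r ∣ Nat.card G → r ∈ π) :
    Cfsg.IsDPiGroup π G ∧ Cfsg.IsCPiGroup π G := by
  have htop : Cfsg.IsPiHall π (⊤ : Subgroup G) := (hall_top_iff h ⊤).2 rfl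
  have hmap : ∀ g : G, (⊤ : Subgroup G).map (MulAut.conj g).toMonoidHom = ⊤ :=
    fun g => Subgroup.map_top_of_surjective _ (MulAut.conj g).surjective
  refine ⟨fun H K hH hK => ⟨1, ?_⟩, ⟨⊤, htop⟩, fun H K hH hK => ⟨1, ?_⟩⟩
  · rw [show H = ⊤ from le_antisymm le_top (hH.2 htop.1 le_top),
      show K = ⊤ from le_antisymm le_top (hK.2 htop.1 le_top), hmap]
  · rw [(hall_top_iff h H).1 hH, (hall_top_iff h K).1 hK, hmap]

/-- The full Sylow analogue gives existence. -/
theorem ePi_of_dPi (hD : Cfsg.IsDPiGroup π G) : Cfsg.IsEPiGroup π G := by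
  obtain ⟨M, hM, -⟩ := exists_maximal_ge (G := G) (π := π) (K := ⊥) (by
    intro r hr hd
    rw [Subgroup.card_bot] at hd
    exact absurd hd hr.not_dvd_one)
  refine ⟨M, hM.1, fun p hp hpπ hd => ?_⟩
  haveI : Fact p.Prime := ⟨hp⟩
  obtain ⟨P⟩ := (inferInstance : Nonempty (Sylow p G))
  obtain ⟨M', hM', hPM⟩ := exists_maximal_ge (G := G) (π := π) (K := P.toSubgroup) (by
    intro r hr hrd
    obtain ⟨k, hk⟩ := IsPGroup.iff_card.1 P.isPGroup'
    rw [hk] at hrd
    rwa [(Nat.prime_dvd_prime_iff_eq hr hp).1 (hr.dvd_of_dvd_pow hrd)])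
  obtain ⟨g, rfl⟩ := hD M M' hM hM'
  apply P.not_dvd_index
  rw [← index_map_conj M g] at hd
  exact hd.trans (Subgroup.index_dvd_of_le hPM)

end General

section Perm

variable {n : ℕ}

theorem swap_conj (g : Perm (Fin n)) (a b : Fin n) :
    g * swap a b * g⁻¹ = swap (g a) (g b) := by
  rw [Equiv.mul_swap_eq_swap_mul, mul_assoc, mul_inv_cancel, mul_one]

/-- The subgroup preserving a colouring. -/
def colStab {ι : Type*} (f : Fin n → ι) : Subgroup (Perm (Fin n)) where
  carrier := {g | ∀ a, f (g a) = f a}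
  one_mem' := fun _ => rfl
  mul_mem' {g h} hg hh := fun a => (hg (h a)).trans (hh a)
  inv_mem' {g} hg := fun a => by
    have := hg (g⁻¹ a)
    rw [Perm.coe_inv, apply_symm_apply] at this
    exact this.symm

theorem mem_colStab {ι : Type*} {f : Fin n → ι} {g : Perm (Fin n)} :
    g ∈ colStab f ↔ ∀ a, f (g a) = f a := Iff.rfl

theorem card_colStab {ι : Type*} [Fintype ι] [DecidableEq ι] (f : Fin n → ι) :
    Nat.card ↥(colStab f) = ∏ i, (Finset.univ.filter (fun a => f a = i)).card ! := by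
  have e : Nat.card ↥(colStab f) = Fintype.card {g : Perm (Fin n) // f ∘ g = f} := by
    rw [← Nat.card_eq_fintype_card]
    exact Nat.card_congr (Equiv.subtypeEquivRight fun g => by
      rw [mem_colStab, funext_iff]; rfl)
  rw [e, DomMulAct.stabilizer_card]
  exact Finset.prod_congr rfl fun i _ => by rw [Fintype.card_subtype]

/-- A periodic point of prime period shows the prime divides the order. -/
theorem prime_dvd_card_of_periodic {H : Subgroup (Perm (Fin n))} {y : Perm (Fin n)} (hy : y ∈ H)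
    {p : ℕ} (hp : p.Prime) {u : Fin n} (h : (y ^ p) u = u) (hu : y u ≠ u) : p ∣ Nat.card H := by
  by_contra hnd
  have hcop : p.Coprime (orderOf y) := by
    refine (hp.coprime_iff_not_dvd).2 fun hd => hnd (hd.trans ?_)
    exact Subgroup.orderOf_dvd_natCard H hy
  apply hu
  have hg : y ^ (Nat.gcd p (orderOf y) : ℤ) ∈ MulAction.stabilizer (Perm (Fin n)) u := by
    rw [Nat.gcd_eq_gcd_ab, zpow_add, zpow_mul, zpow_mul, zpow_natCast, zpow_natCast,
      pow_orderOf_eq_one, one_zpow, mul_one]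
    exact zpow_mem (MulAction.mem_stabilizer_iff.2 h) _
  rw [hcop.gcd_eq_one, Nat.cast_one, zpow_one] at hg
  exact MulAction.mem_stabilizer_iff.1 hg

/-- Simultaneous rotations of disjoint cycles. -/
noncomputable def shiftHom {m p : ℕ} (e : Fin m × ZMod p ↪ Fin n) :
    Multiplicative (Fin m → ZMod p) →* Perm (Fin n) :=
  (Perm.viaEmbeddingHom e).comp
    { toFun := fun f => prodCongrRight fun i => Equiv.addRight (f.toAdd i)
      map_one' := by ext ⟨i, j⟩ <;> simp
      map_mul' := fun f g => by ext ⟨i, j⟩ <;> simp <;> abel }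

noncomputable def shift {m p : ℕ} (e : Fin m × ZMod p ↪ Fin n) (f : Fin m → ZMod p) :
    Perm (Fin n) := shiftHom e (Multiplicative.ofAdd f)

theorem shift_apply {m p : ℕ} (e : Fin m × ZMod p ↪ Fin n) (f : Fin m → ZMod p) (i : Fin m)
    (j : ZMod p) : shift e f (e (i, j)) = e (i, j + f i) := by
  rw [shift, shiftHom, MonoidHom.comp_apply, Perm.viaEmbeddingHom_apply, Perm.viaEmbedding_apply]
  simp

theorem shift_apply_out {m p : ℕ} (e : Fin m × ZMod p ↪ Fin n) (f : Fin m → ZMod p) {a : Fin n}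
    (ha : a ∉ Set.range e) : shift e f a = a := by
  rw [shift, shiftHom, MonoidHom.comp_apply, Perm.viaEmbeddingHom_apply,
    Perm.viaEmbedding_apply_of_notMem _ _ _ ha]

/-- A Hall subgroup has, for every `p ∈ π`, as many disjoint `p`-cycles as fit. -/
theorem exists_shift_mem {G : Type*} [Group G] [Finite G] (ι : G →* Perm (Fin n))
    (hι : Function.Injective ι) (hnormal : ∀ g x, x ∈ ι.range → g * x * g⁻¹ ∈ ι.range)
    {π : Set ℕ} {M : Subgroup G} (hM : Cfsg.IsPiHall π M) {p : ℕ} (hp : p.Prime) (hpπ : p ∈ π)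
    {m : ℕ} (hm : m * p ≤ n) :
    ∃ e : Fin m × ZMod p ↪ Fin n, ∀ f, shift e f ∈ ι.range → shift e f ∈ M.map ι := by
  haveI : Fact p.Prime := ⟨hp⟩
  obtain ⟨e₀⟩ : Nonempty (Fin m × ZMod p ↪ Fin n) :=
    Function.Embedding.nonempty_of_card_le (by simpa using hm)
  have hK : IsPGroup p ↥((shiftHom e₀).range.comap ι) := by
    refine IsPGroup.comap_of_injective ?_ ι hι
    have h0 : IsPGroup p (Multiplicative (Fin m → ZMod p)) :=
      IsPGroup.of_card (n := m) (by rw [Nat.card_eq_fintype_card]; simp)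
    exact h0.of_surjective (shiftHom e₀).rangeRestrict (MonoidHom.rangeRestrict_surjective _)
  obtain ⟨g, hg⟩ := exists_conj_mem hM hp hpπ hK
  refine ⟨e₀.trans (ι g).toEmbedding, fun f hf => ?_⟩
  have hconj : shift (e₀.trans (ι g).toEmbedding) f = ι g * shift e₀ f * (ι g)⁻¹ := by
    ext a
    simp only [Perm.mul_apply]
    by_cases ha : a ∈ Set.range (e₀.trans (ι g).toEmbedding)
    · obtain ⟨⟨i, j⟩, rfl⟩ := ha
      rw [shift_apply]
      simp only [Function.Embedding.trans_apply, Equiv.coe_toEmbedding, Perm.coe_inv,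
        symm_apply_apply, shift_apply]
    · have h2 : (ι g)⁻¹ a ∉ Set.range e₀ := by
        rintro ⟨z, hz⟩
        exact ha ⟨z, by simp [hz]⟩
      rw [shift_apply_out _ _ ha, shift_apply_out _ _ h2]
      simp
  obtain ⟨x, hx⟩ := hf
  have hmem : shift e₀ f ∈ ι.range := by
    have := hnormal (ι g)⁻¹ _ ⟨x, hx⟩
    rw [hconj] at this
    rwa [show (ι g)⁻¹ * (ι g * shift e₀ f * (ι g)⁻¹) * (ι g)⁻¹⁻¹ = shift e₀ f by group] at this
  obtain ⟨y, hy⟩ := hmem
  rw [hconj, ← hy, ← map_inv, ← map_mul, ← map_mul]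
  exact ⟨_, hg y (Subgroup.mem_comap.2 ⟨Multiplicative.ofAdd f, hy.symm⟩), rfl⟩

end Perm

end Cfsg.Agent.Small.HallSym
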