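import Mathlib

/-!
A binomial coefficient `(b + c).choose c` with `2 ≤ c ≤ b` all of whose prime factors exceed `b`
is `7.choose 3`.
-/

set_option autoImplicit false

namespace Cfsg.Agent.Small.HallSym

open Nat

variable {b c : ℕ}

/-- A composite number in the upper interval divides every falling factorial of `c` whose
companion falling factorial it divides. -/
theorem composite_dvd (hcb : c ≤ b) (h : ∀ p : ℕ, p.Prime → p ∣ (b + c).choose c → b < p)
    {x j : ℕ} (hx1 : 1 < x) (hxn : x ≤ b + c) (hx : ¬ x.Prime) (hj : j ≤ c)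
    (hdvd : x ∣ (b + c).descFactorial j ∨ x ∣ (b + j).descFactorial j) :
    x ∣ c.descFactorial j := by
  have hcop : x.Coprime ((b + c).choose c) := by
    refine Nat.coprime_of_dvd fun p hp hpx hpC => ?_
    have h1 := h p hp hpC
    obtain ⟨k, rfl⟩ := hpx
    rcases k with _ | _ | k
    · simp at hx1
    · simp [hp] at hx
    · have : p * 2 ≤ p * (k + 1 + 1) := Nat.mul_le_mul le_rfl (by omega)
      omega
  apply hcop.dvd_of_dvd_mul_left
  rcases hdvd with hd | hd
  · refine hd.trans ?_
    have e := Nat.choose_mul (n := b + c) (k := c) (s := j) hj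
    rw [Nat.descFactorial_eq_factorial_mul_choose, Nat.descFactorial_eq_factorial_mul_choose,
      mul_left_comm ((b + c).choose c), e, ← mul_assoc]
    exact dvd_mul_right _ _
  · refine hd.trans ?_
    have e := Nat.choose_mul (n := b + c) (k := c) (s := c - j) (Nat.sub_le c j)
    rw [Nat.choose_symm hj, show b + c - (c - j) = b + j by omega,
      show c - (c - j) = j by omega] at e
    rw [Nat.descFactorial_eq_factorial_mul_choose, Nat.descFactorial_eq_factorial_mul_choose,
      mul_left_comm ((b + c).choose c), e]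
    exact mul_dvd_mul_left _ (dvd_mul_left _ _)

theorem not_prime_two_mul {k : ℕ} (hk : 2 ≤ k) : ¬ (2 * k).Prime :=
  Nat.not_prime_mul (by norm_num) (by omega)

theorem not_square {M D : ℕ} (h : ∀ k, k < M → k * k % M ≠ D % M) (hM : 0 < M) (w : ℕ) :
    w * w ≠ D := by
  intro e
  apply h (w % M) (Nat.mod_lt _ hM)
  rw [← Nat.mul_mod, e]

set_option maxRecDepth 20000 in
theorem divisor_list : ∀ k : ℕ, k < 4044 → 18 * k + 14 ∣ 72800 →
    k ∈ [0, 1, 2, 5, 7, 57, 77, 161, 252, 577] := by decide +kernel

theorem choose_prime_factors (hc : 2 ≤ c) (hcb : c ≤ b)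
    (h : ∀ p : ℕ, p.Prime → p ∣ (b + c).choose c → b < p) : b = 4 ∧ c = 3 := by
  have comp := @composite_dvd b c hcb h
  -- both ends of the interval are primes
  have hn : (b + c).Prime := by
    by_contra hn
    have := comp (x := b + c) (j := 1) (by omega) le_rfl hn (by omega)
      (Or.inl (by simp [Nat.descFactorial_one]))
    rw [Nat.descFactorial_one] at this
    have := Nat.le_of_dvd (by omega) this
    omega
  have hb1 : (b + 1).Prime := by
    by_contra hn
    have := comp (x := b + 1) (j := 1) (by omega) (by omega) hn (by omega)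
      (Or.inr (by simp [Nat.descFactorial_one]))
    rw [Nat.descFactorial_one] at this
    have := Nat.le_of_dvd (by omega) this
    omega
  have hno : (b + c) % 2 = 1 := hn.eq_two_or_odd.resolve_left (by omega)
  have hbo : (b + 1) % 2 = 1 := hb1.eq_two_or_odd.resolve_left (by omega)
  have hF2 : c.descFactorial 2 = c * (c - 1) := by
    simp [Nat.descFactorial, mul_comm]
  obtain ⟨u, hu⟩ : ∃ u, b + c = 2 * u + 1 := ⟨(b + c) / 2, by omega⟩
  obtain ⟨v, hv⟩ : ∃ v, b + 2 = 2 * v := ⟨(b + 2) / 2, by omega⟩
  have hU : b + c - 1 ∣ c * (c - 1) := by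
    rw [← hF2]
    refine comp (j := 2) (by omega) (by omega) ?_ hc (Or.inl ?_)
    · rw [show b + c - 1 = 2 * u by omega]
      exact not_prime_two_mul (by omega)
    · simp [Nat.descFactorial]
  have hV : b + 2 ∣ c * (c - 1) := by
    rw [← hF2]
    refine comp (j := 2) (by omega) (by omega) ?_ hc (Or.inr ?_)
    · rw [hv]; exact not_prime_two_mul (by omega)
    · simp [Nat.descFactorial]
  rcases Nat.lt_or_ge c 5 with hc5 | hc5
  · obtain rfl : c = 3 := by omega
    have := Nat.le_of_dvd (by norm_num) hU
    exact ⟨by omega, rfl⟩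
  exfalso
  have hF4 : c.descFactorial 4 = c * (c - 1) * (c - 2) * (c - 3) := by
    simp [Nat.descFactorial]; ring
  have hV2 : b + 4 ∣ c * (c - 1) * (c - 2) * (c - 3) := by
    rw [← hF4]
    refine comp (j := 4) (by omega) (by omega) ?_ (by omega) (Or.inr ?_)
    · rw [show b + 4 = 2 * (v + 1) by omega]; exact not_prime_two_mul (by omega)
    · simp [Nat.descFactorial]
      exact dvd_mul_of_dvd_right (dvd_mul_of_dvd_right (dvd_mul_left _ _) _) _
  have hU2 : b + c - 3 ∣ c * (c - 1) * (c - 2) * (c - 3) := by
    rw [← hF4]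
    refine comp (j := 4) (by omega) (by omega) ?_ (by omega) (Or.inl ?_)
    · rw [show b + c - 3 = 2 * (u - 1) by omega]; exact not_prime_two_mul (by omega)
    · simp [Nat.descFactorial]
  -- pass to the integers
  set B : ℤ := (b : ℤ) with hB
  set C : ℤ := (c : ℤ) with hC
  have hC5 : (5 : ℤ) ≤ C := by omega
  have hCB : C ≤ B := by omega
  have iU : B + C - 1 ∣ C * (C - 1) := by
    have := Int.natCast_dvd_natCast.2 hU
    push_cast [Nat.cast_sub (show 1 ≤ b + c by omega), Nat.cast_sub (show 1 ≤ c by omega)] at this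
    exact this
  have iV : B + 2 ∣ C * (C - 1) := by
    have := Int.natCast_dvd_natCast.2 hV
    push_cast [Nat.cast_sub (show 1 ≤ c by omega)] at this
    exact this
  have iV2 : B + 4 ∣ C * (C - 1) * (C - 2) * (C - 3) := by
    have := Int.natCast_dvd_natCast.2 hV2
    push_cast [Nat.cast_sub (show 1 ≤ c by omega), Nat.cast_sub (show 2 ≤ c by omega),
      Nat.cast_sub (show 3 ≤ c by omega)] at this
    exact this
  have iU2 : B + C - 3 ∣ C * (C - 1) * (C - 2) * (C - 3) := by
    have := Int.natCast_dvd_natCast.2 hU2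
    push_cast [Nat.cast_sub (show 3 ≤ b + c by omega), Nat.cast_sub (show 1 ≤ c by omega),
      Nat.cast_sub (show 2 ≤ c by omega), Nat.cast_sub (show 3 ≤ c by omega)] at this
    exact this
  obtain ⟨a, ha⟩ := iU
  obtain ⟨d, hd⟩ := iV
  obtain ⟨s, hs⟩ : (B + C - 1) * (B + 2) ∣ 6 * (C * (C - 1)) := by
    refine ⟨a * d - (C + 2) * (d - a), ?_⟩
    calc 6 * (C * (C - 1))
        = C * (C - 1) * (C * (C - 1))
          - (C + 2) * ((B + C - 1) * (C * (C - 1)) - (B + 2) * (C * (C - 1))) := by ring
      _ = (B + C - 1) * a * ((B + 2) * d)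
          - (C + 2) * ((B + C - 1) * ((B + 2) * d) - (B + 2) * ((B + C - 1) * a)) := by
        rw [← ha, ← hd]
      _ = (B + C - 1) * (B + 2) * (a * d - (C + 2) * (d - a)) := by ring
  have hUV : (2 * C - 1) * (C + 2) ≤ (B + C - 1) * (B + 2) :=
    mul_le_mul (by omega) (by omega) (by omega) (by omega)
  have hs1 : 1 ≤ s := by
    by_contra hcon
    have : (B + C - 1) * (B + 2) * s ≤ 0 :=
      mul_nonpos_of_nonneg_of_nonpos (mul_nonneg (by omega) (by omega)) (by omega)
    nlinarith
  have hs2 : s ≤ 2 := by
    by_contra hcon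
    have : (2 * C - 1) * (C + 2) * 3 ≤ (B + C - 1) * (B + 2) * s :=
      mul_le_mul hUV (by omega) (by norm_num) (mul_nonneg (by omega) (by omega))
    nlinarith
  have hco : C % 2 = 1 := by omega
  obtain rfl | rfl : s = 1 ∨ s = 2 := by omega
  · -- `B + 2 = 2 * C`
    have h0 : (B + 2 - 2 * C) * (B + 3 * C - 1) = 0 := by linear_combination -hs
    have hB2 : B + 2 = 2 * C := by
      rcases mul_eq_zero.1 h0 with h1 | h1 <;> omega
    have h3 : (3 : ℤ) ∣ C := by
      refine ⟨a, ?_⟩
      have : (C - 1) * C = (C - 1) * (3 * a) := by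
        rw [show B + C - 1 = 3 * (C - 1) by omega] at ha
        linear_combination ha
      exact mul_left_cancel₀ (by omega) this
    have h24 : C + 1 ∣ 24 := by
      have h5 : C + 1 ∣ B + 4 := ⟨2, by omega⟩
      have h6 := h5.trans iV2
      have e : C * (C - 1) * (C - 2) * (C - 3)
          = (C + 1) * (C ^ 3 - 7 * C ^ 2 + 18 * C - 24) + 24 := by ring
      rw [e] at h6
      exact (dvd_add_right (dvd_mul_right _ _)).1 h6
    have h25 : C ≤ 23 := by have := Int.le_of_dvd (by norm_num) h24; omega
    obtain ⟨t, ht⟩ := h3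
    obtain ⟨w, hw⟩ := h24
    rw [ht] at hw hco
    have : t ≤ 7 := by omega
    have : 2 ≤ t := by omega
    interval_cases t <;> omega
  · have e3 : (B + C - 1) * (B + 2) = 3 * (C * (C - 1)) := by linarith
    have h3 : (3 : ℤ) ∣ C := by
      have hU3 : B + C - 1 = 3 * d := by
        have : (B + 2) * (B + C - 1) = (B + 2) * (3 * d) := by
          linear_combination e3 + 3 * hd
        exact mul_left_cancel₀ (by omega) this
      have hV3 : B + 2 = 3 * a := by
        have : (B + C - 1) * (B + 2) = (B + C - 1) * (3 * a) := by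
          linear_combination e3 + 3 * ha
        exact mul_left_cancel₀ (by omega) this
      omega
    have hP : (B + C - 3) * (B + 4) = (3 * C + 5) * (C - 2) := by linear_combination e3
    have hdiv : 3 * C + 5 ∣ 72800 := by
      obtain ⟨a', ha'⟩ := iU2
      obtain ⟨d', hd'⟩ := iV2
      set F : ℤ := C * (C - 1) * (C - 2) * (C - 3) with hF
      have h1 : (3 * C + 5) * (C - 2) ∣ 130 * F := by
        refine ⟨F - (3 * C + 20) * (d' - a'), ?_⟩
        calc 130 * F
            = (3 * C + 5) * (C - 2) * F
              - (3 * C + 20) * ((B + C - 3) * F - (B + 4) * F) := by ring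
          _ = (3 * C + 5) * (C - 2) * F
              - (3 * C + 20) * ((B + C - 3) * ((B + 4) * d') - (B + 4) * ((B + C - 3) * a')) := by
            rw [← ha', ← hd']
          _ = (3 * C + 5) * (C - 2) * F
              - (3 * C + 20) * ((B + C - 3) * (B + 4)) * (d' - a') := by ring
          _ = (3 * C + 5) * (C - 2) * (F - (3 * C + 20) * (d' - a')) := by rw [hP]; ring
      rw [show 130 * F = 130 * (C * (C - 1) * (C - 3)) * (C - 2) by rw [hF]; ring] at h1
      have h2 := (mul_dvd_mul_iff_right (show C - 2 ≠ 0 by omega)).1 h1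
      have h4 := dvd_mul_of_dvd_right h2 27
      rw [show 27 * (130 * (C * (C - 1) * (C - 3)))
          = (3 * C + 5) * (130 * (9 * C ^ 2 - 51 * C + 112)) + -72800 by ring] at h4
      exact dvd_neg.1 ((dvd_add_right (dvd_mul_right _ _)).1 h4)
    obtain ⟨k, hk⟩ : ∃ k, c = 6 * k + 3 := ⟨c / 6, by omega⟩
    have hdivN : 18 * k + 14 ∣ 72800 := by
      rw [← Int.natCast_dvd_natCast]
      push_cast
      rwa [show (18 : ℤ) * k + 14 = 3 * C + 5 by omega]
    have hk' : k < 4044 := by have := Nat.le_of_dvd (by norm_num) hdivN; omega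
    have hsq : (2 * (b + 2) + (c - 3)) * (2 * (b + 2) + (c - 3))
        = (c - 3) * (c - 3) + 12 * (c * (c - 1)) := by
      zify [show 3 ≤ c by omega, show 1 ≤ c by omega]
      linear_combination 4 * e3
    have hlist := divisor_list k hk' hdivN
    simp only [List.mem_cons, List.not_mem_nil, or_false] at hlist
    rcases hlist with rfl | rfl | rfl | rfl | rfl | rfl | rfl | rfl | rfl | rfl
    · omega
    · subst hk
      have hb : b = 10 := by
        have : ((B : ℤ) - 10) * (B + 20) = 0 := by
          rw [show C = 9 by omega] at e3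
          linear_combination e3
        rcases mul_eq_zero.1 this with h1 | h1 <;> omega
      subst hb
      have := h 2 Nat.prime_two (by decide +kernel)
      omega
    all_goals
      subst hk
      first
        | exact not_square (M := 169) (by decide +kernel) (by norm_num) _ hsq
        | exact not_square (M := 16) (by decide +kernel) (by norm_num) _ hsq

end Cfsg.Agent.Small.HallSym
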