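import Cfsg.Agent.Lib.Small.HallSym.Basics

/-!
The classes of a permutation group under "the transposition belongs to the group", and the
arithmetic conditions they put on a Hall subgroup.
-/

set_option autoImplicit false

namespace Cfsg.Agent.Small.HallSym

open Equiv
open scoped Nat

variable {n : ℕ} {H : Subgroup (Perm (Fin n))}

/-- The class of a point. -/
noncomputable def cls (H : Subgroup (Perm (Fin n))) (a : Fin n) : Finset (Fin n) := by
  classical exact Finset.univ.filter fun b => a = b ∨ swap a b ∈ H

theorem mem_cls {a b : Fin n} : b ∈ cls H a ↔ a = b ∨ swap a b ∈ H := by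
  simp [cls]

theorem self_mem_cls (a : Fin n) : a ∈ cls H a := mem_cls.2 (Or.inl rfl)

theorem mem_cls_symm {a b : Fin n} (h : b ∈ cls H a) : a ∈ cls H b := by
  rw [mem_cls] at h ⊢
  rcases h with rfl | h
  · exact Or.inl rfl
  · exact Or.inr (by rwa [swap_comm])

theorem mem_cls_trans {a b c : Fin n} (h1 : b ∈ cls H a) (h2 : c ∈ cls H b) : c ∈ cls H a := by
  rw [mem_cls] at *
  by_cases hac : a = c
  · exact Or.inl hac
  rcases h1 with rfl | h1
  · exact h2
  rcases h2 with rfl | h2
  · exact Or.inr h1
  by_cases hab : a = b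
  · subst hab; exact Or.inr h2
  have := mul_mem (mul_mem h2 h1) (inv_mem h2)
  rw [swap_conj, swap_apply_of_ne_of_ne hab hac, swap_apply_left] at this
  exact Or.inr this

theorem cls_eq_of_mem {a b : Fin n} (h : b ∈ cls H a) : cls H b = cls H a :=
  Finset.ext fun _ => ⟨fun hc => mem_cls_trans h hc, fun hc => mem_cls_trans (mem_cls_symm h) hc⟩

theorem cls_map {g : Perm (Fin n)} (hg : g ∈ H) (a : Fin n) :
    cls H (g a) = (cls H a).map g.toEmbedding := by
  ext b
  obtain ⟨c, rfl⟩ := g.surjective b
  simp only [Finset.mem_map', Equiv.coe_toEmbedding, EmbeddingLike.apply_eq_iff_eq,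
    exists_eq_right, Finset.mem_map, mem_cls]
  refine or_congr Iff.rfl ⟨fun h => ?_, fun h => ?_⟩
  · have := mul_mem (mul_mem (inv_mem hg) h) hg
    have e := swap_conj g⁻¹ (g a) (g c)
    rw [inv_inv] at e
    rw [e] at this
    simpa using this
  · rw [← swap_conj g a c]
    exact mul_mem (mul_mem hg h) (inv_mem hg)

/-- The symmetric group on a class lies in the group. -/
theorem factorial_cls_dvd (a : Fin n) : (cls H a).card ! ∣ Nat.card H := by
  classical
  have hle : (Perm.ofSubtype (p := fun x => x ∈ cls H a)).range ≤ H := by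
    rintro _ ⟨σ, rfl⟩
    induction σ using Perm.swap_induction_on with
    | one => rw [map_one]; exact one_mem H
    | swap_mul σ x y hxy ih =>
      rw [map_mul, Perm.ofSubtype_swap_eq]
      refine mul_mem ?_ ih
      have h1 : (y : Fin n) ∈ cls H x := by
        rw [cls_eq_of_mem x.2]; exact y.2
      exact (mem_cls.1 h1).resolve_left fun h => hxy (Subtype.ext h)
  have := Subgroup.card_dvd_of_le hle
  rwa [Nat.card_congr ((Perm.ofSubtype (p := fun x => x ∈ cls H a)).ofInjective
    Perm.ofSubtype_injective).toEquiv.symm, Nat.card_eq_fintype_card, Fintype.card_perm,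
    Fintype.card_coe] at this

theorem prime_mem_of_le_cls {π : Set ℕ} (hH : Cfsg.IsPiHall π H) {p : ℕ} (hp : p.Prime)
    {a : Fin n} (h : p ≤ (cls H a).card) : p ∈ π :=
  hH.1 p hp ((Nat.dvd_factorial hp.pos h).trans (factorial_cls_dvd a))

theorem cycle_pow_apply {q : ℕ} {c : Perm (Fin n)} {x : ZMod q → Fin n}
    (hc : ∀ j, c (x j) = x (j + 1)) (j : ZMod q) (k : ℕ) : (c ^ k) (x j) = x (j + k) := by
  induction k with
  | zero => simp
  | succ k ih => rw [pow_succ', Perm.mul_apply, ih, hc]; push_cast; rw [add_assoc]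

/-- A cycle of prime length either lies inside one class, or consists of singleton classes. -/
theorem cycle_dichotomy {q : ℕ} [Fact q.Prime] {c : Perm (Fin n)} (hcH : c ∈ H)
    (x : ZMod q ↪ Fin n) (hc : ∀ j, c (x j) = x (j + 1)) (hout : ∀ a, a ∉ Set.range x → c a = a) :
    (∀ j, x j ∈ cls H (x 0)) ∨ ∀ j, cls H (x j) = {x j} := by
  by_cases hall : ∀ j, cls H (x j) = {x j}
  · exact Or.inr hall
  left
  push Not at hall
  obtain ⟨j, hj⟩ := hall
  obtain ⟨b, hb, hbj⟩ : ∃ b ∈ cls H (x j), b ≠ x j := by
    by_contra hno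
    push Not at hno
    exact hj (Finset.eq_singleton_iff_unique_mem.2 ⟨self_mem_cls _, hno⟩)
  obtain ⟨d, hd, hd0⟩ : ∃ d : ZMod q, x (j + d) ∈ cls H (x j) ∧ d ≠ 0 := by
    by_cases hr : b ∈ Set.range x
    · obtain ⟨i, rfl⟩ := hr
      exact ⟨i - j, by rwa [add_sub_cancel], sub_ne_zero.2 fun h => hbj (by rw [h])⟩
    · refine ⟨1, ?_, one_ne_zero⟩
      have h1 : b ∈ cls H (x (j + 1)) := by
        rw [← hc, cls_map hcH, Finset.mem_map]
        exact ⟨b, hb, hout b hr⟩
      rw [← cls_eq_of_mem hb, cls_eq_of_mem h1]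
      exact self_mem_cls _
  have step : ∀ k : ℕ, x (j + k * d) ∈ cls H (x j) := by
    intro k
    induction k with
    | zero => simp [self_mem_cls]
    | succ k ih =>
      have h2 : x (j + d + k * d) ∈ cls H (x (j + k * d)) := by
        have hpow : c ^ ((k * d : ZMod q).val) ∈ H := pow_mem hcH _
        have e1 := cycle_pow_apply (x := ⇑x) hc j (k * d : ZMod q).val
        have e2 := cycle_pow_apply (x := ⇑x) hc (j + d) (k * d : ZMod q).val
        rw [ZMod.natCast_rightInverse] at e1 e2
        rw [← e1, ← e2, cls_map hpow]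
        exact Finset.mem_map.2 ⟨_, hd, rfl⟩
      have := mem_cls_trans ih h2
      rwa [show j + d + (k : ZMod q) * d = j + ((k + 1 : ℕ) : ZMod q) * d by push_cast; ring] at this
  have hall' : ∀ i, x i ∈ cls H (x j) := by
    intro i
    have := step ((i - j) * d⁻¹).val
    rwa [ZMod.natCast_rightInverse, inv_mul_cancel_right₀ hd0, add_sub_cancel] at this
  intro i
  rw [cls_eq_of_mem (hall' 0)]
  exact hall' i

/-- Equivariance makes the classes of given size into a permuted family. -/
noncomputable def classesOf (H : Subgroup (Perm (Fin n))) (k : ℕ) : Finset (Finset (Fin n)) := by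
  classical exact (Finset.univ.filter fun a => (cls H a).card = k).image (cls H)

theorem mem_classesOf {k : ℕ} {B : Finset (Fin n)} :
    B ∈ classesOf H k ↔ ∃ a, (cls H a).card = k ∧ cls H a = B := by
  simp [classesOf]

theorem cls_mem_classesOf (a : Fin n) : cls H a ∈ classesOf H (cls H a).card :=
  mem_classesOf.2 ⟨a, rfl, rfl⟩

theorem card_size_eq (k : ℕ) :
    (Finset.univ.filter fun a => (cls H a).card = k).card = (classesOf H k).card * k := by
  classical
  rw [Finset.card_eq_sum_card_fiberwise (f := cls H) (t := classesOf H k)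
    (fun a ha => by
      simp only [Finset.mem_coe, Finset.mem_filter] at ha
      exact mem_classesOf.2 ⟨a, ha.2, rfl⟩)]
  rw [Finset.sum_const_nat]
  intro B hB
  obtain ⟨a, ha, rfl⟩ := mem_classesOf.1 hB
  refine Eq.trans (congrArg Finset.card ?_) ha
  ext b
  simp only [Finset.mem_filter, Finset.mem_univ, true_and]
  constructor
  · rintro ⟨-, h2⟩
    rw [← h2]; exact self_mem_cls b
  · intro hb
    rw [cls_eq_of_mem hb]
    exact ⟨ha, rfl⟩

theorem prod_choose_identity (k m : ℕ) :
    (m * (k + 1))! = (k + 1)! ^ m * m ! *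
      ∏ i ∈ Finset.range m, ((i + 1) * (k + 1) - 1).choose k := by
  induction m with
  | zero => simp
  | succ m ih =>
    rw [Finset.prod_range_succ, pow_succ]
    have e : (m + 1) * (k + 1) = (m * (k + 1) + k) + 1 := by ring
    rw [e, Nat.add_sub_cancel, Nat.factorial_succ (m * (k + 1) + k),
      ← Nat.choose_mul_factorial_mul_factorial (Nat.le_add_left k (m * (k + 1))),
      Nat.add_sub_cancel, ih, Nat.factorial_succ m, Nat.factorial_succ k]
    ring

theorem not_dvd_of_card_dvd {π : Set ℕ} (hH : Cfsg.IsPiHall π H) {P Q : ℕ} (hP : P ≠ 0)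
    (hd : Nat.card H ∣ P) (hPQ : n ! = P * Q) {p : ℕ} (hp : p.Prime) (hpπ : p ∈ π) : ¬ p ∣ Q := by
  obtain ⟨t, rfl⟩ := hd
  have h1 := H.card_mul_index
  rw [Nat.card_eq_fintype_card (α := Perm (Fin n)), Fintype.card_perm, Fintype.card_fin, hPQ,
    mul_assoc] at h1
  have h2 := Nat.eq_of_mul_eq_mul_left Nat.card_pos h1
  intro hdQ
  exact hH.2 p hp hpπ (h2 ▸ dvd_mul_of_dvd_right hdQ t)

/-- The classes of one size force binomial coefficients to be prime to `π`. -/
theorem block_bound {π : Set ℕ} (hH : Cfsg.IsPiHall π H) (k : ℕ) {p : ℕ} (hp : p.Prime)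
    (hpπ : p ∈ π) :
    ¬ p ∣ n.choose ((classesOf H (k + 1)).card * (k + 1)) ∧
      ∀ i < (classesOf H (k + 1)).card, ¬ p ∣ ((i + 1) * (k + 1) - 1).choose k := by
  classical
  set S := classesOf H (k + 1) with hS
  set m := S.card with hm
  have hinv : ∀ g ∈ H, ∀ B, B ∈ S → B.map (Equiv.toEmbedding g) ∈ S := by
    intro g hg B hB
    obtain ⟨a, ha, rfl⟩ := mem_classesOf.1 hB
    exact mem_classesOf.2 ⟨g a, by rw [cls_map hg, Finset.card_map]; exact ha, cls_map hg a⟩
  let Φ : ↥H →* Perm {B // B ∈ S} :=
    { toFun := fun g => (Equiv.finsetCongr (g : Perm (Fin n))).subtypeEquiv (p := fun B => B ∈ S)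
        (q := fun B => B ∈ S) fun B => ⟨fun h => hinv g g.2 B h, fun h => by
          have := hinv _ (inv_mem g.2) _ h
          rwa [Equiv.finsetCongr_apply, Finset.map_map, show (g : Perm (Fin n)).toEmbedding.trans
            ((g : Perm (Fin n))⁻¹ : Perm (Fin n)).toEmbedding = Function.Embedding.refl _ by
              ext a; simp, Finset.map_refl] at this⟩
      map_one' := by
        ext B x
        simp [Equiv.Perm.one_def]
      map_mul' := fun g h => by
        ext B x
        simp [Perm.mul_def] }
  let f : Fin n → Option {B // B ∈ S} := fun a => if h : cls H a ∈ S then some ⟨cls H a, h⟩ else none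
  have hker : (Φ.ker.map H.subtype) ≤ colStab f := by
    rintro _ ⟨g, hg, rfl⟩ a
    have hcls := cls_map g.2 a
    by_cases ha : cls H a ∈ S
    · have h1 : (cls H a).map (g : Perm (Fin n)).toEmbedding = cls H a := by
        have := DFunLike.congr_fun (MonoidHom.mem_ker.1 hg) ⟨cls H a, ha⟩
        exact Subtype.ext_iff.1 this
      rw [h1] at hcls
      simp only [Subgroup.coe_subtype, f, hcls]
    · have ha' : cls H ((g : Perm (Fin n)) a) ∉ S := by
        rw [hcls]
        intro hin
        obtain ⟨b, hb, hbe⟩ := mem_classesOf.1 hin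
        apply ha
        refine mem_classesOf.2 ⟨a, ?_, rfl⟩
        rw [← Finset.card_map (f := (g : Perm (Fin n)).toEmbedding), ← hbe, hb]
      simp only [Subgroup.coe_subtype, f, dif_neg ha, dif_neg ha']
  have hfib : ∀ B : {B // B ∈ S}, (Finset.univ.filter fun a => f a = some B).card = k + 1 := by
    intro B
    obtain ⟨a, ha, hB⟩ := mem_classesOf.1 B.2
    rw [← ha, hB]
    congr 1
    ext b
    simp only [Finset.mem_filter, Finset.mem_univ, true_and, f]
    constructor
    · intro h
      split at h
      · rw [← congrArg Subtype.val (Option.some_injective _ h)]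
        exact self_mem_cls b
      · exact absurd h (by simp)
    · intro hb
      have hbS : cls H b = cls H a := cls_eq_of_mem (hB ▸ hb)
      rw [dif_pos (show cls H b ∈ S by rw [hbS, hB]; exact B.2)]
      exact congrArg some (Subtype.ext (hbS.trans hB))
  have hsum : (Finset.univ.filter fun a => f a = none).card + m * (k + 1) = n := by
    have := Finset.card_eq_sum_card_fiberwise (f := f) (s := (Finset.univ : Finset (Fin n)))
      (t := Finset.univ) (fun a _ => Finset.mem_univ _)
    rw [Fintype.sum_option, Finset.sum_congr rfl (fun B _ => hfib B)] at this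
    simpa [hm, mul_comm] using this.symm
  set R := (Finset.univ.filter fun a => f a = none).card with hR
  have hd : Nat.card H ∣ m ! * ((k + 1)! ^ m * R !) := by
    rw [← Φ.ker.card_mul_index, mul_comm, Subgroup.index_ker]
    refine mul_dvd_mul ?_ ?_
    · refine (Subgroup.card_subgroup_dvd_card _).trans ?_
      rw [Nat.card_eq_fintype_card, Fintype.card_perm, Fintype.card_coe]
    · rw [← Subgroup.card_map_of_injective H.subtype_injective (K := Φ.ker)]
      refine (Subgroup.card_dvd_of_le hker).trans ?_
      rw [card_colStab, Fintype.prod_option, Finset.prod_congr rfl (fun B _ => by rw [hfib B]),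
        Finset.prod_const, mul_comm]
      simp [hm, hR]
  have hPQ : n ! = m ! * ((k + 1)! ^ m * R !) *
      (n.choose (m * (k + 1)) * ∏ i ∈ Finset.range m, ((i + 1) * (k + 1) - 1).choose k) := by
    rw [← Nat.choose_mul_factorial_mul_factorial (show m * (k + 1) ≤ n by omega),
      show n - m * (k + 1) = R by omega, prod_choose_identity]
    ring
  have hnd := not_dvd_of_card_dvd hH (by positivity) hd hPQ hp hpπ
  exact ⟨fun h => hnd (dvd_mul_of_dvd_left h _),
    fun i hi h => hnd (dvd_mul_of_dvd_right (h.trans (Finset.dvd_prod_of_mem (fun i => ((i + 1) * (k + 1) - 1).choose k) (Finset.mem_range.2 hi))) _)⟩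

/-- Two invariant disjoint sets force a binomial coefficient to be prime to `π`. -/
theorem two_set_bound {π : Set ℕ} (hH : Cfsg.IsPiHall π H) {B B' : Finset (Fin n)}
    (hdis : Disjoint B B') (hB : ∀ g ∈ H, ∀ a, g a ∈ B ↔ a ∈ B)
    (hB' : ∀ g ∈ H, ∀ a, g a ∈ B' ↔ a ∈ B') {p : ℕ} (hp : p.Prime) (hpπ : p ∈ π) :
    ¬ p ∣ (B.card + B'.card).choose B.card := by
  classical
  let f : Fin n → Fin 3 := fun a => if a ∈ B then 0 else if a ∈ B' then 1 else 2
  have hle : H ≤ colStab f := fun g hg a => by simp only [f, hB g hg a, hB' g hg a]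
  have hd := Subgroup.card_dvd_of_le hle
  rw [card_colStab, Fin.prod_univ_three] at hd
  have h0 : (Finset.univ.filter fun a => f a = 0) = B := by
    ext a; simp only [Finset.mem_filter, Finset.mem_univ, true_and, f]
    split_ifs <;> simp_all
  have h1 : (Finset.univ.filter fun a => f a = 1) = B' := by
    ext a; simp only [Finset.mem_filter, Finset.mem_univ, true_and, f]
    have hd' : a ∈ B → a ∉ B' := fun h => Finset.disjoint_left.1 hdis h
    split_ifs <;> simp_all
  have hsum := Finset.card_eq_sum_card_fiberwise (f := f) (s := (Finset.univ : Finset (Fin n)))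
      (t := Finset.univ) (fun a _ => Finset.mem_univ _)
  rw [Fin.sum_univ_three, Finset.card_univ, Fintype.card_fin, h0, h1] at hsum
  rw [h0, h1] at hd
  have hPQ : n ! = B.card ! * B'.card ! * (Finset.univ.filter fun a => f a = 2).card ! *
      (n.choose (B.card + B'.card) * (B.card + B'.card).choose B.card) := by
    rw [← Nat.choose_mul_factorial_mul_factorial (show B.card + B'.card ≤ n by omega),
      show n - (B.card + B'.card) = (Finset.univ.filter fun a => f a = 2).card by omega,
      ← Nat.add_choose_mul_factorial_mul_factorial B.card B'.card, ← Nat.choose_symm_add]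
    ring
  exact fun h => not_dvd_of_card_dvd hH (by positivity) hd hPQ hp hpπ (dvd_mul_of_dvd_right h _)

end Cfsg.Agent.Small.HallSym
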