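import Cfsg.Agent.Lib.Small.HallSym.Classes

/-!
A Hall subgroup of a symmetric group for at least two primes, neither of them `2`, does not exist.
-/

set_option autoImplicit false

namespace Cfsg.Agent.Small.HallSym

open Equiv

variable {n : ℕ} {H : Subgroup (Perm (Fin n))}

/-- Two `p`-cycles with overlapping, distinct supports in a group of odd order without prime
divisors below `p`: impossible. -/
theorem cycles_disjoint {p : ℕ} [Fact p.Prime] (hsmall : ∀ r : ℕ, r.Prime → r ∣ Nat.card H → p ≤ r)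
    (h2 : ¬ 2 ∣ Nat.card H) {x y : ZMod p ↪ Fin n} {c d : Perm (Fin n)} (hcH : c ∈ H)
    (hdH : d ∈ H) (hc : ∀ j, c (x j) = x (j + 1)) (hd : ∀ j, d (y j) = y (j + 1))
    (hco : ∀ a, a ∉ Set.range x → c a = a) (hdo : ∀ a, a ∉ Set.range y → d a = a)
    {z : Fin n} (hzx : z ∈ Set.range x) (hzy : z ∈ Set.range y) :
    Finset.univ.map x = Finset.univ.map y := by
  classical
  have hp : p.Prime := Fact.out
  by_contra hne
  set U : Finset (Fin n) := Finset.univ.map x ∪ Finset.univ.map y with hU
  have memU : ∀ {a : Fin n}, a ∈ U ↔ a ∈ Set.range x ∨ a ∈ Set.range y := by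
    intro a; simp [hU]
  have cardU : p < U.card ∧ U.card < 2 * p := by
    have hcx : (Finset.univ.map x).card = p := by simp
    have hcy : (Finset.univ.map y).card = p := by simp
    have hci := Finset.card_union_add_card_inter (Finset.univ.map x) (Finset.univ.map y)
    have hpos : 0 < (Finset.univ.map x ∩ Finset.univ.map y).card :=
      Finset.card_pos.2 ⟨z, by simpa using ⟨hzx, hzy⟩⟩
    have hlt : (Finset.univ.map x ∩ Finset.univ.map y).card < p := by
      refine lt_of_lt_of_eq (Finset.card_lt_card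
        (Finset.ssubset_iff_subset_ne.2 ⟨Finset.inter_subset_left, fun h => ?_⟩)) hcx
      exact hne (Finset.eq_of_subset_of_card_le (Finset.inter_eq_left.1 h) (by rw [hcx, hcy]))
    rw [← hU] at hci
    omega
  let G : Subgroup (Perm {a // a ∈ U}) := H.comap Perm.ofSubtype
  have hG : Nat.card G ∣ Nat.card H := by
    rw [← Subgroup.card_map_of_injective Perm.ofSubtype_injective (K := G)]
    exact Subgroup.card_dvd_of_le (Subgroup.map_comap_le _ _)
  -- restrictions of the two cycles
  have restr : ∀ (w : ZMod p ↪ Fin n) (e : Perm (Fin n)), (∀ j, w j ∈ U) → e ∈ H →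
      (∀ j, e (w j) = w (j + 1)) → (∀ a, a ∉ Set.range w → e a = a) →
      ∃ e' ∈ G, ∀ a, (e' a : Fin n) = e a := by
    intro w e hwU heH he heo
    have hiff : ∀ a, e a ∈ U ↔ a ∈ U := by
      intro a
      by_cases ha : a ∈ Set.range w
      · obtain ⟨j, rfl⟩ := ha
        simp [he, hwU]
      · rw [heo a ha]
    refine ⟨e.subtypePerm hiff, ?_, fun a => rfl⟩
    rw [Subgroup.mem_comap, Perm.ofSubtype_subtypePerm hiff fun a ha => by
      by_contra haU
      exact ha (heo a fun ⟨j, hj⟩ => haU (hj ▸ hwU j))]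
    exact heH
  obtain ⟨c', hc'G, hc'⟩ := restr x c (fun j => memU.2 (Or.inl ⟨j, rfl⟩)) hcH hc hco
  obtain ⟨d', hd'G, hd'⟩ := restr y d (fun j => memU.2 (Or.inr ⟨j, rfl⟩)) hdH hd hdo
  have pow_val : ∀ (e : Perm (Fin n)) (e' : Perm {a // a ∈ U}), (∀ a, (e' a : Fin n) = e a) →
      ∀ (k : ℕ) (a : {a // a ∈ U}), ((e' ^ k) a : Fin n) = (e ^ k) a := by
    intro e e' he k
    induction k with
    | zero => simp
    | succ k ih => intro a; rw [pow_succ', pow_succ', Perm.mul_apply, Perm.mul_apply, he, ih]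
  haveI : MulAction.IsPretransitive G {a // a ∈ U} := by
    obtain ⟨i₀, hi₀⟩ := hzx
    obtain ⟨j₀, hj₀⟩ := hzy
    have hzU : z ∈ U := memU.2 (Or.inl ⟨i₀, hi₀⟩)
    have toz : ∀ a : {a // a ∈ U}, ∃ g : G, g • (⟨z, hzU⟩ : {a // a ∈ U}) = a := by
      rintro ⟨a, ha⟩
      rcases memU.1 ha with ⟨i, rfl⟩ | ⟨i, rfl⟩
      · refine ⟨⟨c' ^ (i - i₀).val, pow_mem hc'G _⟩, Subtype.ext ?_⟩
        show ((c' ^ (i - i₀).val) (⟨z, hzU⟩ : {a // a ∈ U}) : Fin n) = x i
        rw [pow_val c c' hc']
        show (c ^ (i - i₀).val) z = x i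
        rw [← hi₀, cycle_pow_apply hc, ZMod.natCast_rightInverse, add_sub_cancel]
      · refine ⟨⟨d' ^ (i - j₀).val, pow_mem hd'G _⟩, Subtype.ext ?_⟩
        show ((d' ^ (i - j₀).val) (⟨z, hzU⟩ : {a // a ∈ U}) : Fin n) = y i
        rw [pow_val d d' hd']
        show (d ^ (i - j₀).val) z = y i
        rw [← hj₀, cycle_pow_apply hd, ZMod.natCast_rightInverse, add_sub_cancel]
    refine ⟨fun a b => ?_⟩
    obtain ⟨g, rfl⟩ := toz a
    obtain ⟨g', rfl⟩ := toz b
    exact ⟨g' * g⁻¹, by rw [smul_smul, inv_mul_cancel_right]⟩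
  -- the number of points is prime
  have hN : Nat.card {a // a ∈ U} = U.card := by simp [Nat.card_eq_fintype_card]
  have hNdvd : U.card ∣ Nat.card H := by
    rw [← hN, ← MulAction.index_stabilizer_of_transitive G (⟨z, memU.2 (Or.inl hzx)⟩ : {a // a ∈ U})]
    exact (Subgroup.index_dvd_card _).trans hG
  have hNp : (Nat.card {a // a ∈ U}).Prime := by
    rw [hN]
    obtain ⟨r, hr, hrd⟩ := Nat.exists_prime_and_dvd (show U.card ≠ 1 by have := hp.two_le; omega)
    obtain ⟨t, ht⟩ := hrd
    have hpr := hsmall r hr ((Dvd.intro t ht.symm).trans hNdvd)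
    rcases t with _ | _ | t
    · omega
    · rwa [ht, Nat.mul_one]
    · have : p * 2 ≤ r * (t + 1 + 1) := Nat.mul_le_mul hpr (by omega)
      omega
  have hprim : MulAction.IsPreprimitive G {a // a ∈ U} := MulAction.IsPreprimitive.of_prime_card hNp
  have hmoved : ∀ a : {a // a ∈ U}, c' a ≠ a ↔ (a : Fin n) ∈ Set.range x := by
    intro a
    rw [Ne, Subtype.ext_iff, hc']
    refine ⟨fun h => ?_, fun ⟨j, hj⟩ => ?_⟩
    · by_contra ha; exact h (hco _ ha)
    · rw [← hj, hc, EmbeddingLike.apply_eq_iff_eq]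
      simp
  have hcyc : c'.IsCycle := by
    refine ⟨⟨x 0, memU.2 (Or.inl ⟨0, rfl⟩)⟩, (hmoved _).2 ⟨0, rfl⟩, fun a ha => ?_⟩
    obtain ⟨j, hj⟩ := (hmoved a).1 ha
    refine ⟨(j.val : ℕ), Subtype.ext ?_⟩
    rw [zpow_natCast, pow_val c c' hc']
    show (c ^ j.val) (x 0) = a
    rw [cycle_pow_apply hc, zero_add, ZMod.natCast_rightInverse, hj]
  have hsupp : c'.support.card = p := by
    have : c'.support.map ⟨Subtype.val, Subtype.val_injective⟩ = Finset.univ.map x := by
      ext a
      simp only [Finset.mem_map, Perm.mem_support, Function.Embedding.coeFn_mk, Finset.mem_univ,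
        true_and]
      constructor
      · rintro ⟨b, hb, rfl⟩
        obtain ⟨j, hj⟩ := (hmoved b).1 hb
        exact ⟨j, hj⟩
      · rintro ⟨j, rfl⟩
        exact ⟨⟨x j, memU.2 (Or.inl ⟨j, rfl⟩)⟩, (hmoved _).2 ⟨j, rfl⟩, rfl⟩
    simpa using congrArg Finset.card this
  have hsc : Set.ncard ((c'.support : Set {a // a ∈ U})ᶜ) = (U.card - p - 1) + 1 := by
    rw [Set.ncard_compl, Set.ncard_coe_finset, hsupp, hN]
    omega
  have h2t := hprim.is_two_pretransitive hsc (by rw [hN]; omega)
    (Perm.isPretransitive_of_isCycle_mem hcyc hc'G)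
  obtain ⟨a, b, hab⟩ : ∃ a b : {a // a ∈ U}, a ≠ b := by
    refine ⟨⟨x 0, memU.2 (Or.inl ⟨0, rfl⟩)⟩, ⟨x 1, memU.2 (Or.inl ⟨1, rfl⟩)⟩, fun h => ?_⟩
    exact zero_ne_one (x.injective (congrArg Subtype.val h))
  obtain ⟨g, hg1, hg2⟩ := MulAction.is_two_pretransitive_iff.1 h2t hab hab.symm
  apply h2
  refine prime_dvd_card_of_periodic (y := Perm.ofSubtype (g : Perm {a // a ∈ U})) (u := (a : Fin n))
    g.2 Nat.prime_two ?_ ?_
  · rw [sq, Perm.mul_apply, Perm.ofSubtype_apply_coe, show (g : Perm {a // a ∈ U}) a = b from hg1,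
      Perm.ofSubtype_apply_coe, show (g : Perm {a // a ∈ U}) b = a from hg2]
  · rw [Perm.ofSubtype_apply_coe, show (g : Perm {a // a ∈ U}) a = b from hg1]
    exact fun h => hab (Subtype.ext h.symm)

theorem shift_single_apply {m p : ℕ} (e : Fin m × ZMod p ↪ Fin n) (i : Fin m) (j : ZMod p) :
    shift e (Pi.single i 1) (e (i, j)) = e (i, j + 1) := by
  rw [shift_apply, Pi.single_eq_same]

theorem shift_single_out {m p : ℕ} (e : Fin m × ZMod p ↪ Fin n) (i : Fin m) {a : Fin n}
    (ha : ∀ j, e (i, j) ≠ a) : shift e (Pi.single i 1) a = a := by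
  by_cases h : a ∈ Set.range e
  · obtain ⟨⟨i', j⟩, rfl⟩ := h
    have : i' ≠ i := by rintro rfl; exact ha j rfl
    rw [shift_apply, Pi.single_eq_of_ne this, add_zero]
  · exact shift_apply_out _ _ h

/-- One of the cycles. -/
def rowEmb {m p : ℕ} (e : Fin m × ZMod p ↪ Fin n) (i : Fin m) : ZMod p ↪ Fin n :=
  (⟨fun j => (i, j), fun _ _ h => congrArg Prod.snd h⟩ : ZMod p ↪ Fin m × ZMod p).trans e

theorem rowEmb_apply {m p : ℕ} (e : Fin m × ZMod p ↪ Fin n) (i : Fin m) (j : ZMod p) :
    rowEmb e i j = e (i, j) := rfl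

/-- With two primes in `π`, a Hall subgroup of the symmetric group forces `2 ∈ π`. -/
theorem two_mem_of_hall {π : Set ℕ} (hH : Cfsg.IsPiHall π H)
    (h2 : ∃ r s : ℕ, r.Prime ∧ s.Prime ∧ r ≠ s ∧ r ∈ π ∧ s ∈ π ∧ r ≤ n ∧ s ≤ n) : 2 ∈ π := by
  classical
  by_contra hodd
  obtain ⟨r, s, hr, hs, hrs, hrπ, hsπ, hrn, hsn⟩ := h2
  have hex : ∃ p, p.Prime ∧ p ∈ π := ⟨r, hr, hrπ⟩
  obtain ⟨p, hp, hpπ, hmin⟩ : ∃ p : ℕ, p.Prime ∧ p ∈ π ∧ ∀ t : ℕ, t.Prime → t ∈ π → p ≤ t :=
    ⟨Nat.find hex, (Nat.find_spec hex).1, (Nat.find_spec hex).2,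
      fun t ht htπ => Nat.find_min' hex ⟨ht, htπ⟩⟩
  haveI : Fact p.Prime := ⟨hp⟩
  have hsmall : ∀ t : ℕ, t.Prime → t ∣ Nat.card H → p ≤ t :=
    fun t ht htd => hmin t ht (hH.1 t ht htd)
  have hH2 : ¬ 2 ∣ Nat.card H := fun h => hodd (hH.1 2 Nat.prime_two h)
  obtain ⟨q, hq, hqπ, hqn, hpq⟩ : ∃ q : ℕ, q.Prime ∧ q ∈ π ∧ q ≤ n ∧ p < q := by
    rcases eq_or_ne r p with rfl | hne
    · exact ⟨s, hs, hsπ, hsn, lt_of_le_of_ne (hmin s hs hsπ) hrs⟩
    · exact ⟨r, hr, hrπ, hrn, lt_of_le_of_ne (hmin r hr hrπ) hne.symm⟩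
  haveI : Fact q.Prime := ⟨hq⟩
  have hid : ∀ g x : Perm (Fin n), x ∈ (MonoidHom.id (Perm (Fin n))).range →
      g * x * g⁻¹ ∈ (MonoidHom.id (Perm (Fin n))).range := fun g x _ => ⟨_, rfl⟩
  obtain ⟨e, he⟩ := exists_shift_mem (MonoidHom.id _) Function.injective_id hid hH hp hpπ
    (Nat.div_mul_le_self n p)
  obtain ⟨e', he'⟩ := exists_shift_mem (MonoidHom.id _) Function.injective_id hid hH hq hqπ
    (m := 1) (by omega)
  have hemem : ∀ f, shift e f ∈ H := fun f => by simpa using he f ⟨_, rfl⟩
  set g := shift e' (Pi.single 0 1) with hgdef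
  have hgH : g ∈ H := by simpa using he' (Pi.single 0 1) ⟨_, rfl⟩
  -- the blocks
  let B : Fin (n / p) → Finset (Fin n) := fun i => Finset.univ.map (rowEmb e i)
  have cardB : ∀ i, (B i).card = p := fun i => by simp [B]
  have memB : ∀ {i a}, a ∈ B i ↔ ∃ j, e (i, j) = a := by simp [B, rowEmb_apply]
  have disB : ∀ i i', i ≠ i' → Disjoint (B i) (B i') := by
    intro i i' hii
    rw [Finset.disjoint_left]
    intro a ha ha'
    obtain ⟨j, rfl⟩ := memB.1 ha
    obtain ⟨j', hj'⟩ := memB.1 ha'
    exact hii (congrArg Prod.fst (e.injective hj')).symm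
  have img : ∀ i, ∃ k, (B i).map g.toEmbedding = B k := by
    intro i
    by_contra hno
    push Not at hno
    have key : ∀ k, Disjoint ((B i).map g.toEmbedding) (B k) := by
      intro k
      rw [Finset.disjoint_left]
      intro a ha ha'
      apply hno k
      have := cycles_disjoint hsmall hH2
        (x := (rowEmb e i).trans g.toEmbedding) (y := rowEmb e k)
        (c := g * shift e (Pi.single i 1) * g⁻¹) (d := shift e (Pi.single k 1))
        (mul_mem (mul_mem hgH (hemem _)) (inv_mem hgH)) (hemem _)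
        (fun j => by simp [rowEmb_apply, shift_single_apply]) (fun j => shift_single_apply e k j)
        (fun b hb => by
          simp only [Perm.mul_apply]
          rw [shift_single_out e i fun j hj => hb ⟨j, by simp [rowEmb_apply, hj]⟩]
          simp)
        (fun b hb => shift_single_out e k fun j hj => hb ⟨j, hj⟩)
        (z := a) (by simpa [B, Equiv.eq_symm_apply] using ha) (by simpa [B] using ha')
      simp only [B, Finset.map_map]
      exact this
    have hsub : (B i).map g.toEmbedding ⊆ Finset.univ \ (Finset.univ.biUnion B) := by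
      intro a ha
      simp only [Finset.mem_sdiff, Finset.mem_univ, Finset.mem_biUnion, true_and, not_exists]
      exact fun k hk => Finset.disjoint_left.1 (key k) ha hk
    have := Finset.card_le_card hsub
    rw [Finset.card_map, cardB, Finset.card_univ_sdiff, Fintype.card_fin,
      Finset.card_biUnion (fun i _ j _ h => disB i j h)] at this
    simp only [cardB, Finset.sum_const, Finset.card_univ, Fintype.card_fin, smul_eq_mul] at this
    have h1 := Nat.div_add_mod n p
    have h2 := Nat.mod_lt n hp.pos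
    rw [mul_comm p] at h1
    omega
  let R : Finset (Fin n) := Finset.univ.map (rowEmb e' 0)
  have cardR : R.card = q := by simp [R]
  have hout : ∀ a, a ∉ R → g a = a := fun a ha =>
    shift_single_out e' 0 fun j hj => ha (by simpa [R] using ⟨j, hj⟩)
  have hmove : ∀ j, g (e' (0, j)) = e' (0, j + 1) := fun j => shift_single_apply e' 0 j
  -- a block meeting `R` lies in it
  have hin : ∀ i a, a ∈ B i → a ∈ R → B i ⊆ R := by
    intro i a ha haR
    obtain ⟨k, hk⟩ := img i
    by_cases hki : k = i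
    · exfalso
      rw [hki] at hk
      have hclosed : ∀ t : ℕ, (g ^ t) a ∈ B i := by
        intro t
        induction t with
        | zero => simpa using ha
        | succ t ih =>
          rw [pow_succ', Perm.mul_apply, ← hk]
          exact Finset.mem_map.2 ⟨_, ih, rfl⟩
      obtain ⟨j₀, -, hj₀⟩ := Finset.mem_map.1 haR
      have : R ⊆ B i := by
        intro b hb
        obtain ⟨j, -, rfl⟩ := Finset.mem_map.1 hb
        have := hclosed (j - j₀).val
        rw [← hj₀] at this
        rw [rowEmb_apply] at this ⊢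
        rwa [cycle_pow_apply (x := fun j => e' (0, j)) hmove, ZMod.natCast_rightInverse,
          add_sub_cancel] at this
      have := Finset.card_le_card this
      rw [cardR, cardB] at this
      omega
    · intro b hb
      by_contra hbR
      exact Finset.disjoint_left.1 (disB k i hki)
        (by rw [← hk]; exact Finset.mem_map.2 ⟨b, hb, hout b hbR⟩) hb
  have hcover : ∀ a ∈ R, ∃ i, a ∈ B i := by
    intro a ha
    by_contra hno
    push Not at hno
    have hg : ∀ t : ℕ, ∀ i, (g ^ t) a ∉ B i := by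
      intro t
      induction t with
      | zero => simpa using hno
      | succ t ih =>
        intro i hi
        rw [pow_succ', Perm.mul_apply] at hi
        -- `g` permutes the blocks
        have hsurj : Function.Surjective (fun i => (img i).choose) := by
          rw [← Finite.injective_iff_surjective]
          intro i i' h
          by_contra hii
          have e1 := (img i).choose_spec
          rw [show (img i).choose = (img i').choose from h, ← (img i').choose_spec,
            Finset.map_inj] at e1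
          have := cardB i
          have hd := disB i i' hii
          rw [e1, disjoint_self, Finset.bot_eq_empty] at hd
          rw [e1, hd, Finset.card_empty] at this
          exact hp.ne_zero this.symm
        obtain ⟨i', rfl⟩ := hsurj i
        rw [← (img i').choose_spec, Finset.mem_map] at hi
        obtain ⟨b, hb, hbe⟩ := hi
        exact ih i' (g.injective hbe ▸ hb)
    obtain ⟨j₀, -, hj₀⟩ := Finset.mem_map.1 ha
    have hsub : R ⊆ Finset.univ \ Finset.univ.biUnion B := by
      intro b hb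
      obtain ⟨j, -, rfl⟩ := Finset.mem_map.1 hb
      simp only [Finset.mem_sdiff, Finset.mem_univ, Finset.mem_biUnion, true_and, not_exists]
      intro i hi
      apply hg (j - j₀).val i
      rw [← hj₀, rowEmb_apply]
      rw [rowEmb_apply] at hi
      rwa [cycle_pow_apply (x := fun j => e' (0, j)) hmove, ZMod.natCast_rightInverse,
        add_sub_cancel]
    have := Finset.card_le_card hsub
    rw [cardR, Finset.card_univ_sdiff, Fintype.card_fin,
      Finset.card_biUnion (fun i _ j _ h => disB i j h)] at this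
    simp only [cardB, Finset.sum_const, Finset.card_univ, Fintype.card_fin, smul_eq_mul] at this
    have h1 := Nat.div_add_mod n p
    have h2 := Nat.mod_lt n hp.pos
    rw [mul_comm p] at h1
    omega
  have hR : R = (Finset.univ.filter fun i => B i ⊆ R).biUnion B := by
    ext a
    simp only [Finset.mem_biUnion, Finset.mem_filter, Finset.mem_univ, true_and]
    refine ⟨fun ha => ?_, fun ⟨i, hi, hai⟩ => hi hai⟩
    obtain ⟨i, hi⟩ := hcover a ha
    exact ⟨i, hin i a hi ha, hi⟩
  have hcard := congrArg Finset.card hR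
  rw [cardR, Finset.card_biUnion (fun i _ j _ h => disB i j h)] at hcard
  simp only [cardB, Finset.sum_const, smul_eq_mul] at hcard
  have := (Nat.prime_dvd_prime_iff_eq hp hq).1 ⟨_, by rw [hcard, mul_comm]⟩
  omega

end Cfsg.Agent.Small.HallSym
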