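import Cfsg.Agent.Lib.Small.HallSym.Alt

/-!
Existence, conjugacy and the Sylow property for Hall subgroups of symmetric and alternating groups.
-/

set_option autoImplicit false

namespace Cfsg.Agent.Small.HallSym

open Equiv
open scoped Nat

variable {n : ℕ} {π : Set ℕ}

theorem card_perm_fin : Nat.card (Perm (Fin n)) = n ! := by
  rw [Nat.card_eq_fintype_card, Fintype.card_perm, Fintype.card_fin]

theorem prime_le_of_dvd_perm {r : ℕ} (hr : r.Prime) (h : r ∣ Nat.card (Perm (Fin n))) : r ≤ n :=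
  hr.dvd_factorial.1 (card_perm_fin (n := n) ▸ h)

theorem prime_le_of_dvd_alt {r : ℕ} (hr : r.Prime)
    (h : r ∣ Nat.card ↥(alternatingGroup (Fin n))) : r ≤ n :=
  prime_le_of_dvd_perm hr (h.trans (Subgroup.card_subgroup_dvd_card _))

theorem dvd_card_alt {r : ℕ} (hr : r.Prime) (h5 : 4 ≤ n) (hrn : r ≤ n) :
    r ∣ Nat.card ↥(alternatingGroup (Fin n)) := by
  haveI : Nontrivial (Fin n) := Fin.nontrivial_iff_two_le.2 (by omega)
  rcases eq_or_ne r 2 with rfl | h2
  · have h8 : 4 ! ∣ n ! := Nat.factorial_dvd_factorial h5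
    have h := two_mul_nat_card_alternatingGroup (α := Fin n)
    rw [card_perm_fin] at h
    have : 24 ∣ n ! := by simpa [Nat.factorial] using h8
    omega
  · have h : r ∣ 2 * Nat.card ↥(alternatingGroup (Fin n)) := by
      rw [two_mul_nat_card_alternatingGroup, card_perm_fin]
      exact Nat.dvd_factorial hr.pos hrn
    exact (hr.dvd_mul.1 h).resolve_left fun h' =>
      h2 ((Nat.prime_dvd_prime_iff_eq hr Nat.prime_two).1 h')

/-- Intersection of a Hall subgroup of the symmetric group with the alternating group. -/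
theorem hall_inter {M₀ : Subgroup (Perm (Fin n))} (h : Cfsg.IsPiHall π M₀) :
    Cfsg.IsPiHall π (M₀.subgroupOf (alternatingGroup (Fin n))) := by
  set A := alternatingGroup (Fin n)
  have hc : Nat.card ↥(M₀.subgroupOf A) = Nat.card ↥(A.subgroupOf M₀) := by
    rw [← Subgroup.card_map_of_injective A.subtype_injective,
      ← Subgroup.card_map_of_injective M₀.subtype_injective, Subgroup.subgroupOf_map_subtype,
      Subgroup.subgroupOf_map_subtype, inf_comm]
  refine ⟨fun p hp hd => h.1 p hp (hd.trans (hc ▸ Subgroup.card_subgroup_dvd_card _)),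
    fun p hp hpπ hd => h.2 p hp hpπ (hd.trans ?_)⟩
  obtain ⟨t, ht⟩ : (A.subgroupOf M₀).index ∣ A.index := Subgroup.relIndex_dvd_index_of_normal _ _
  refine ⟨t, ?_⟩
  have h1 := M₀.card_mul_index
  rw [← A.card_mul_index, ← (A.subgroupOf M₀).card_mul_index,
    ← (M₀.subgroupOf A).card_mul_index, hc, ht] at h1
  have h2 : Nat.card ↥(A.subgroupOf M₀) * (A.subgroupOf M₀).index * M₀.index
      = Nat.card ↥(A.subgroupOf M₀) * (A.subgroupOf M₀).index *
        ((M₀.subgroupOf A).index * t) := by rw [h1]; ring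
  exact Nat.eq_of_mul_eq_mul_left
    (Nat.mul_pos Nat.card_pos (Nat.pos_of_ne_zero Subgroup.index_ne_zero_of_finite)) h2

theorem hall_alt_iff (M : Subgroup ↥(alternatingGroup (Fin n))) :
    Cfsg.IsPiHall π M ↔ ∃ M₀ : Subgroup (Perm (Fin n)), Cfsg.IsPiHall π M₀ ∧
      M = M₀.subgroupOf (alternatingGroup (Fin n)) :=
  ⟨exists_extension, fun ⟨_, h, e⟩ => e ▸ hall_inter h⟩

theorem ePi_iff : Cfsg.IsEPiGroup π (Perm (Fin n)) ↔
    Cfsg.IsEPiGroup π ↥(alternatingGroup (Fin n)) :=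
  ⟨fun ⟨_, h⟩ => ⟨_, hall_inter h⟩, fun ⟨_, h⟩ =>
    let ⟨M₀, h₀, _⟩ := exists_extension h
    ⟨M₀, h₀⟩⟩

theorem trichotomy (n : ℕ) (π : Set ℕ) :
    (∀ r s : ℕ, r.Prime → s.Prime → r ∈ π → s ∈ π → r ≤ n → s ≤ n → r = s) ∨
      (∀ r : ℕ, r.Prime → r ≤ n → r ∈ π) ∨
      ((∃ r s : ℕ, r.Prime ∧ s.Prime ∧ r ≠ s ∧ r ∈ π ∧ s ∈ π ∧ r ≤ n ∧ s ≤ n) ∧
        ∃ r : ℕ, r.Prime ∧ r ≤ n ∧ r ∉ π) := by
  by_cases h1 : ∀ r : ℕ, r.Prime → r ≤ n → r ∈ π
  · exact Or.inr (Or.inl h1)
  push Not at h1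
  by_cases h2 : ∃ r s : ℕ, r.Prime ∧ s.Prime ∧ r ≠ s ∧ r ∈ π ∧ s ∈ π ∧ r ≤ n ∧ s ≤ n
  · exact Or.inr (Or.inr ⟨h2, h1⟩)
  · refine Or.inl fun r s hr hs hrπ hsπ hrn hsn => ?_
    by_contra hne
    exact h2 ⟨r, s, hr, hs, hne, hrπ, hsπ, hrn, hsn⟩

theorem map_subgroupOf_eq {G : Type*} [Group G] (A : Subgroup G) [A.Normal] (K : Subgroup G)
    (g : G) (hg : g ∈ A) :
    (K.subgroupOf A).map (MulAut.conj (⟨g, hg⟩ : A)).toMonoidHom
      = (K.map (MulAut.conj g).toMonoidHom).subgroupOf A := by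
  ext x
  rw [Subgroup.mem_map_equiv, Subgroup.mem_subgroupOf, Subgroup.mem_subgroupOf,
    Subgroup.mem_map_equiv]
  rfl

theorem cPi_perm (h : Cfsg.IsEPiGroup π (Perm (Fin n))) : Cfsg.IsCPiGroup π (Perm (Fin n)) := by
  rcases trichotomy n π with h1 | h1 | ⟨h2, hns⟩
  · exact (dPi_of_subsingleton fun r s hr hs hrπ hsπ hrd hsd =>
      h1 r s hr hs hrπ hsπ (prime_le_of_dvd_perm hr hrd) (prime_le_of_dvd_perm hs hsd)).2
  · exact (dPi_of_all fun r hr hrd => h1 r hr (prime_le_of_dvd_perm hr hrd)).2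
  · refine ⟨h, fun H K hH hK => ?_⟩
    obtain ⟨-, h5, B, hB, rfl⟩ := sym_hall hH h2 hns
    obtain ⟨-, -, B', hB', rfl⟩ := sym_hall hK h2 hns
    exact shape_conj hB hB' h5

theorem cPi_alt (h : Cfsg.IsEPiGroup π ↥(alternatingGroup (Fin n))) :
    Cfsg.IsCPiGroup π ↥(alternatingGroup (Fin n)) := by
  rcases trichotomy n π with h1 | h1 | ⟨h2, hns⟩
  · exact (dPi_of_subsingleton fun r s hr hs hrπ hsπ hrd hsd =>
      h1 r s hr hs hrπ hsπ (prime_le_of_dvd_alt hr hrd) (prime_le_of_dvd_alt hs hsd)).2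
  · exact (dPi_of_all fun r hr hrd => h1 r hr (prime_le_of_dvd_alt hr hrd)).2
  refine ⟨h, fun H K hH hK => ?_⟩
  obtain ⟨H₀, hH₀, rfl⟩ := exists_extension hH
  obtain ⟨K₀, hK₀, rfl⟩ := exists_extension hK
  obtain ⟨h2π, h5, -⟩ := sym_hall hH₀ h2 hns
  haveI : Nontrivial (Fin n) := Fin.nontrivial_iff_two_le.2 (by omega)
  obtain ⟨g, rfl⟩ := (cPi_perm (ePi_iff.2 h)).2 H₀ K₀ hH₀ hK₀
  -- an odd element of `H₀`
  obtain ⟨t, htH, ht⟩ : ∃ t ∈ H₀, Perm.sign t = -1 := by
    by_contra hno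
    push Not at hno
    have hle : H₀ ≤ alternatingGroup (Fin n) := fun x hx =>
      Perm.mem_alternatingGroup.2 ((Int.units_eq_one_or _).resolve_right (hno x hx))
    refine hH₀.2 2 Nat.prime_two h2π (dvd_trans ?_ (Subgroup.index_dvd_of_le hle))
    have h1 := (alternatingGroup (Fin n)).card_mul_index
    rw [← two_mul_nat_card_alternatingGroup (α := Fin n), mul_comm 2] at h1
    rw [Nat.eq_of_mul_eq_mul_left Nat.card_pos h1]
  obtain ⟨g', hg', hgg⟩ : ∃ g', Perm.sign g' = 1 ∧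
      H₀.map (MulAut.conj g).toMonoidHom = H₀.map (MulAut.conj g').toMonoidHom := by
    rcases Int.units_eq_one_or (Perm.sign g) with hg | hg
    · exact ⟨g, hg, rfl⟩
    · refine ⟨g * t, by rw [map_mul, hg, ht]; rfl, ?_⟩
      ext x
      rw [Subgroup.mem_map_equiv, Subgroup.mem_map_equiv, MulAut.conj_symm_apply,
        MulAut.conj_symm_apply, _root_.mul_inv_rev,
        show t⁻¹ * g⁻¹ * x * (g * t) = t⁻¹ * (g⁻¹ * x * g) * t by group]
      exact ⟨fun h => mul_mem (mul_mem (inv_mem htH) h) htH, fun h => by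
        have := mul_mem (mul_mem htH h) (inv_mem htH)
        rwa [show t * (t⁻¹ * (g⁻¹ * x * g) * t) * t⁻¹ = g⁻¹ * x * g by group] at this⟩
  exact ⟨⟨g', Perm.mem_alternatingGroup.2 hg'⟩, by
    rw [map_subgroupOf_eq, ← hgg]⟩

/-- A colour of six points in three pairs, all other points having a fourth colour. -/
def sixCol (x : Fin n) : Fin 4 :=
  if h : x.val < 6 then ⟨x.val % 3, by omega⟩ else 3

/-- Permutations permuting the colours, together with the permutation of the colours. -/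
def colPairs (n : ℕ) : Subgroup (Perm (Fin 4) × Perm (Fin n)) where
  carrier := {q | ∀ x, sixCol (q.2 x) = q.1 (sixCol x)}
  one_mem' := fun _ => rfl
  mul_mem' {q r} hq hr := fun x => by
    simp only [Prod.fst_mul, Prod.snd_mul, Perm.mul_apply]
    rw [hq, hr]
  inv_mem' {q} hq := fun x => by
    have := hq (q.2⁻¹ x)
    simp only [Perm.coe_inv, apply_symm_apply] at this
    simp only [Prod.fst_inv, Prod.snd_inv, Perm.coe_inv]
    rw [this, symm_apply_apply]

theorem mem_colPairs {q : Perm (Fin 4) × Perm (Fin n)} :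
    q ∈ colPairs n ↔ ∀ x, sixCol (q.2 x) = q.1 (sixCol x) := Iff.rfl

theorem card_colPairs_dvd (hn : n = 7 ∨ n = 8) : Nat.card ↥(colPairs n) ∣ 4 ! * 16 := by
  let prFst : ↥(colPairs n) →* Perm (Fin 4) := (MonoidHom.fst _ _).comp (colPairs n).subtype
  let prSnd : ↥(colPairs n) →* Perm (Fin n) := (MonoidHom.snd _ _).comp (colPairs n).subtype
  rw [← prFst.ker.card_mul_index, mul_comm, Subgroup.index_ker]
  refine mul_dvd_mul ?_ ?_
  · refine (Subgroup.card_subgroup_dvd_card _).trans ?_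
    rw [Nat.card_eq_fintype_card, Fintype.card_perm, Fintype.card_fin]
  · have hinj : Function.Injective (prSnd.comp prFst.ker.subtype) := by
      intro a b h
      apply Subtype.ext; apply Subtype.ext
      exact Prod.ext ((MonoidHom.mem_ker.1 a.2).trans (MonoidHom.mem_ker.1 b.2).symm) h
    rw [Nat.card_congr (MonoidHom.ofInjective hinj).toEquiv]
    refine (Subgroup.card_dvd_of_le (K := colStab (n := n) sixCol) ?_).trans ?_
    · rintro _ ⟨q, rfl⟩ x
      have := (q : ↥(colPairs n)).2 x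
      rw [show ((q : ↥(colPairs n)) : Perm (Fin 4) × Perm (Fin n)).1 = 1 from MonoidHom.mem_ker.1 q.2]
        at this
      exact this
    · rw [card_colStab, Fin.prod_univ_four]
      rcases hn with rfl | rfl <;> decide +kernel

/-- The two generators on six points. -/
def sixA : Perm (Fin 6) := (cyc 0 1 2 * cyc 3 4 5) ^ 2

def sixB : Perm (Fin 6) := cyc 0 1 3 * swap 3 4

theorem iff_cancel {P Q R : Prop} (h : (P ↔ Q) ↔ (R ↔ Q)) : P ↔ R := by tauto

theorem not_contained_small (hn : n = 7 ∨ n = 8)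
    (hπ : ∀ r : ℕ, r.Prime → r ≤ n → (r ∈ π ↔ (r = 2 ∨ r = 3))) :
    ¬ ∀ K : Subgroup ↥(alternatingGroup (Fin n)), Cfsg.IsPiSubgroup π K →
      ∃ B : Finset (Fin n), Shape n π B.card ∧
        K.map (alternatingGroup (Fin n)).subtype ≤ shapeStab B := by
  intro hall
  set A := alternatingGroup (Fin n) with hA
  let p : Fin 6 ↪ Fin n := Fin.castLEEmb (by omega)
  let E := Perm.viaEmbeddingHom p
  have hEp : ∀ σ i, (E σ * E σ) (p i) = p (σ (σ i)) := fun σ i => by
    rw [Perm.mul_apply, Perm.viaEmbeddingHom_apply, Perm.viaEmbedding_apply,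
      Perm.viaEmbedding_apply]
  have hEout : ∀ σ x, 6 ≤ x.val → (E σ * E σ) x = x := fun σ x hx => by
    have : x ∉ Set.range p := by
      rintro ⟨i, rfl⟩
      simp [p] at hx
      omega
    rw [Perm.mul_apply, Perm.viaEmbeddingHom_apply,
      Perm.viaEmbedding_apply_of_notMem _ _ _ this, Perm.viaEmbedding_apply_of_notMem _ _ _ this]
  have hsign : ∀ σ, E σ * E σ ∈ A := fun σ => Perm.mem_alternatingGroup.2 (by
    rw [map_mul, Int.units_mul_self])
  have hcol : ∀ (σ : Perm (Fin 6)) (τ : Perm (Fin 4)), τ 3 = 3 →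
      (∀ i : Fin 6, (⟨(σ (σ i)).val % 3, by omega⟩ : Fin 4) = τ ⟨i.val % 3, by omega⟩) →
      E σ * E σ ∈ (colPairs n).map (MonoidHom.snd _ _) := by
    intro σ τ hτ h
    refine ⟨(τ, E σ * E σ), fun x => ?_, rfl⟩
    show sixCol ((E σ * E σ) x) = τ (sixCol x)
    rcases Nat.lt_or_ge x.val 6 with hx | hx
    · obtain ⟨i, rfl⟩ : ∃ i, p i = x := ⟨⟨x.val, hx⟩, Fin.ext rfl⟩
      rw [hEp]
      simp only [sixCol, p, Fin.castLEEmb_apply, Fin.val_castLE, Fin.is_lt, dite_true]
      exact h i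
    · rw [hEout σ x hx]
      simp only [sixCol, dif_neg (not_lt.2 hx), hτ]
  have hK : Cfsg.IsPiSubgroup π (((colPairs n).map (MonoidHom.snd _ _)).subgroupOf A) := by
    intro q hq hd
    have hd' : q ∣ 4 ! * 16 := by
      refine hd.trans (dvd_trans ?_ (card_colPairs_dvd hn))
      rw [← Subgroup.card_map_of_injective A.subtype_injective]
      exact (Subgroup.card_dvd_of_le (Subgroup.map_comap_le _ _)).trans
        (Subgroup.card_dvd_of_surjective ((MonoidHom.snd _ _).subgroupMap (colPairs n))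
          (MonoidHom.subgroupMap_surjective _ _))
    have hq23 : q = 2 ∨ q = 3 := by
      rw [show 4 ! * 16 = 2 ^ 7 * 3 by decide] at hd'
      rcases hq.dvd_mul.1 hd' with h | h
      · exact Or.inl ((Nat.prime_dvd_prime_iff_eq hq Nat.prime_two).1 (hq.dvd_of_dvd_pow h))
      · exact Or.inr ((Nat.prime_dvd_prime_iff_eq hq Nat.prime_three).1 h)
    exact (hπ q hq (by omega)).2 hq23
  obtain ⟨B, hB, hKB⟩ := hall _ hK
  have h4 : B.card = 4 := by
    rcases hB with ⟨hp, h, -⟩ | ⟨-, -, h4⟩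
    · rcases hn with rfl | rfl
      · exfalso
        have := (h 5 (by norm_num) (by norm_num)).2 (by norm_num)
        exact absurd ((hπ 5 (by norm_num) (by norm_num)).1 this) (by norm_num)
      · exact absurd hp (by norm_num)
    · exact h4
  have hmemA : E sixA * E sixA ∈ shapeStab B :=
    hKB ⟨⟨_, hsign sixA⟩, hcol sixA (cyc 0 1 2) (by decide +kernel) (by decide +kernel), rfl⟩
  have hmemB : E sixB * E sixB ∈ shapeStab B :=
    hKB ⟨⟨_, hsign sixB⟩, hcol sixB 1 rfl (by decide +kernel), rfl⟩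
  set z : Fin n := ⟨6, by omega⟩
  -- with a fixed point, both preserve the two parts
  have stepA : ∀ i j, sixA (sixA i) = j → (p j ∈ B ↔ p i ∈ B) := by
    intro i j hij
    have := hmemA (p i) z
    rw [hEp, hEout _ z le_rfl, hij] at this
    exact iff_cancel this
  have stepB : ∀ i j, sixB (sixB i) = j → (p j ∈ B ↔ p i ∈ B) := by
    intro i j hij
    have := hmemB (p i) z
    rw [hEp, hEout _ z le_rfl, hij] at this
    exact iff_cancel this
  have e1 := stepA 0 1 (by decide +kernel)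
  have e2 := stepA 1 2 (by decide +kernel)
  have e3 := stepA 3 4 (by decide +kernel)
  have e4 := stepA 4 5 (by decide +kernel)
  have e5 := stepB 0 3 (by decide +kernel)
  have hall6 : ∀ i : Fin 6, (p i ∈ B ↔ p 0 ∈ B) := by
    intro i
    fin_cases i
    · exact Iff.rfl
    · exact e1
    · exact e2.trans e1
    · exact e5
    · exact e3.trans e5
    · exact e4.trans (e3.trans e5)
  by_cases h0 : p 0 ∈ B
  · have := Finset.card_le_card (s := Finset.univ.map p) (t := B) (fun x hx => by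
      obtain ⟨i, -, rfl⟩ := Finset.mem_map.1 hx
      exact (hall6 i).2 h0)
    simp at this
    omega
  · have := Finset.card_le_card (s := B) (t := Finset.univ \ Finset.univ.map p) (fun x hx => by
      simp only [Finset.mem_sdiff, Finset.mem_univ, true_and, Finset.mem_map]
      rintro ⟨i, rfl⟩
      exact h0 ((hall6 i).1 hx))
    rw [Finset.card_univ_sdiff, Finset.card_map, Finset.card_univ, Fintype.card_fin,
      Fintype.card_fin] at this
    omega

theorem not_contained_prime (hn : n.Prime) (h5 : 5 ≤ n)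
    (hπ : ∀ r : ℕ, r.Prime → r ≤ n → (r ∈ π ↔ r < n)) :
    ¬ ∀ K : Subgroup ↥(alternatingGroup (Fin n)), Cfsg.IsPiSubgroup π K →
      ∃ B : Finset (Fin n), Shape n π B.card ∧ K.map (alternatingGroup (Fin n)).subtype ≤ shapeStab B := by
  intro hall
  obtain ⟨C, -, hC⟩ := Finset.exists_subset_card_eq (s := (Finset.univ : Finset (Fin n)))
    (n := n - 2) (by simp)
  set A := alternatingGroup (Fin n)
  have hne : C.Nonempty := Finset.card_pos.1 (by omega)
  have hK : Cfsg.IsPiSubgroup π ((shapeStab C).subgroupOf A) := by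
    intro p hp hd
    have hd' : p ∣ 2 * (C.card ! * (n - C.card)!) := by
      refine hd.trans ?_
      rw [← Subgroup.card_map_of_injective A.subtype_injective]
      exact (Subgroup.card_dvd_of_le (Subgroup.map_comap_le _ _)).trans (card_shapeStab_dvd hne)
    have hple : p ≤ 2 ∨ p ≤ C.card ∨ p ≤ n - C.card := by
      rcases hp.dvd_mul.1 hd' with h | h
      · exact Or.inl (Nat.le_of_dvd (by norm_num) h)
      · rcases hp.dvd_mul.1 h with h | h
        · exact Or.inr (Or.inl (hp.dvd_factorial.1 h))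
        · exact Or.inr (Or.inr (hp.dvd_factorial.1 h))
    exact (hπ p hp (by omega)).2 (by omega)
  obtain ⟨B, hB, hKB⟩ := hall _ hK
  have hBn : B.card = n - 1 := by
    rcases hB with ⟨-, -, h⟩ | ⟨h78, h, -⟩
    · exact h
    · exfalso
      rcases h78 with rfl | rfl
      · have := (hπ 5 (by norm_num) (by norm_num)).2 (by norm_num)
        exact absurd ((h 5 (by norm_num) (by norm_num)).1 this) (by norm_num)
      · exact absurd hn (by norm_num)
  obtain ⟨z, hz⟩ := Finset.card_eq_one.1 (show (Finset.univ \ B).card = 1 by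
    rw [Finset.card_univ_sdiff, Fintype.card_fin]; omega)
  have hzB : ∀ x, x ∈ B ↔ x ≠ z := by
    intro x
    have := congrArg (fun s => x ∈ s) hz
    simp only [Finset.mem_sdiff, Finset.mem_univ, true_and, Finset.mem_singleton, eq_iff_iff] at this
    tauto
  -- an even permutation preserving `C` and moving `z`
  obtain ⟨g, hgA, hgC, hgz⟩ : ∃ g : Perm (Fin n), Perm.sign g = 1 ∧
      (∀ x, g x ∈ C ↔ x ∈ C) ∧ g z ≠ z := by
    by_cases hzC : z ∈ C
    · obtain ⟨b, hb, c, hc, hbc⟩ := Finset.one_lt_card.1 (show 1 < (C.erase z).card by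
        rw [Finset.card_erase_of_mem hzC]; omega)
      rw [Finset.mem_erase] at hb hc
      refine ⟨cyc z b c, ?_, fun x => ?_, ?_⟩
      · rw [cyc, map_mul, Perm.sign_swap hb.1.symm, Perm.sign_swap hbc]; rfl
      · by_cases h1 : x = z
        · subst h1; rw [cyc_apply_first hb.1.symm hc.1.symm]; simp [hb.2, hzC]
        by_cases h2 : x = b
        · subst h2; rw [cyc_apply_mid hc.1.symm hbc]; simp [hb.2, hc.2]
        by_cases h3 : x = c
        · subst h3; rw [cyc_apply_last]; simp [hc.2, hzC]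
        rw [cyc_apply_out h1 h2 h3]
      · rw [cyc_apply_first hb.1.symm hc.1.symm]; exact hb.1
    · obtain ⟨c, hc, d, hd, hcd⟩ := Finset.one_lt_card.1 (show 1 < C.card by omega)
      obtain ⟨w, hw⟩ := Finset.card_pos.1 (show 0 < ((Finset.univ \ C).erase z).card by
        rw [Finset.card_erase_of_mem (by simp [hzC]), Finset.card_univ_sdiff, Fintype.card_fin]
        omega)
      simp only [Finset.mem_erase, Finset.mem_sdiff, Finset.mem_univ, true_and] at hw
      have hzc : z ≠ c := fun h => hzC (h ▸ hc)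
      have hzd : z ≠ d := fun h => hzC (h ▸ hd)
      have hwc : w ≠ c := fun h => hw.2 (h ▸ hc)
      have hwd : w ≠ d := fun h => hw.2 (h ▸ hd)
      refine ⟨swap z w * swap c d, ?_, fun x => ?_, ?_⟩
      · rw [map_mul, Perm.sign_swap hw.1.symm, Perm.sign_swap hcd]; rfl
      · rw [Perm.mul_apply]
        simp only [swap_apply_def]
        split_ifs <;> simp_all
      · rw [Perm.mul_apply, swap_apply_of_ne_of_ne hzc hzd, swap_apply_left]
        exact hw.1
  have hgmem : g ∈ shapeStab B := hKB ⟨⟨g, Perm.mem_alternatingGroup.2 hgA⟩,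
    fun a b => by simp [hgC], rfl⟩
  -- contradiction
  obtain ⟨b, hb⟩ := Finset.card_pos.1 (show 0 < (Finset.univ \ {z, g⁻¹ z} : Finset (Fin n)).card by
    rw [Finset.card_univ_sdiff, Fintype.card_fin]
    have := Finset.card_le_two (a := z) (b := g⁻¹ z)
    omega)
  simp only [Finset.mem_sdiff, Finset.mem_univ, true_and, Finset.mem_insert, Finset.mem_singleton,
    not_or] at hb
  have ha : g⁻¹ z ≠ z := fun h => hgz (by simpa using (congrArg g h).symm)
  have h1 := (hgmem (g⁻¹ z) b).2 (by rw [hzB, hzB]; exact iff_of_true ha hb.1)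
  rw [Perm.coe_inv, apply_symm_apply] at h1
  have h2 : g b ≠ z := fun h => hb.2 (by rw [← h]; simp)
  simp [hzB, h2] at h1

/-- The full Sylow analogue fails in the exceptional cases. -/
theorem not_dPi_alt (h5 : 5 ≤ n) (h2 : ∃ r s : ℕ, r.Prime ∧ s.Prime ∧ r ≠ s ∧ r ∈ π ∧ s ∈ π ∧
    r ≤ n ∧ s ≤ n) (hns : ∃ r : ℕ, r.Prime ∧ r ≤ n ∧ r ∉ π) :
    ¬ Cfsg.IsDPiGroup π ↥(alternatingGroup (Fin n)) := by
  intro hD
  obtain ⟨M, hM⟩ := ePi_of_dPi hD
  obtain ⟨M₀, hM₀, rfl⟩ := exists_extension hM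
  obtain ⟨-, -, B, hB, rfl⟩ := sym_hall hM₀ h2 hns
  have hall : ∀ K : Subgroup ↥(alternatingGroup (Fin n)), Cfsg.IsPiSubgroup π K →
      ∃ B : Finset (Fin n), Shape n π B.card ∧
        K.map (alternatingGroup (Fin n)).subtype ≤ shapeStab B := by
    intro K hK
    obtain ⟨N, hN, hKN⟩ := exists_maximal_ge hK
    obtain ⟨g, rfl⟩ := hD _ N (hall_maximal hM) hN
    refine ⟨B.map (g : Perm (Fin n)).toEmbedding, by rwa [Finset.card_map], ?_⟩
    rw [shapeStab_map, Subgroup.map_le_iff_le_comap]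
    refine hKN.trans ?_
    rw [show g = ⟨(g : Perm (Fin n)), g.2⟩ from rfl, map_subgroupOf_eq]
    exact le_rfl
  rcases hB with ⟨hn, hπ, -⟩ | ⟨rfl | rfl, hπ, -⟩
  · exact not_contained_prime hn h5 hπ hall
  · exact not_contained_small (Or.inl rfl) hπ hall
  · exact not_contained_small (Or.inr rfl) hπ hall

end Cfsg.Agent.Small.HallSym
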