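import Cfsg.Agent.Lib.Small.HallSym.Odd
import Cfsg.Agent.Lib.Small.HallSym.Binomial

/-!
Hall subgroups of symmetric groups for at least two primes, not all of those up to `n`.
-/

set_option autoImplicit false

namespace Cfsg.Agent.Small.HallSym

open Equiv
open scoped Nat

variable {n : ℕ}

/-- The stabiliser of the partition into a set and its complement. -/
def shapeStab (B : Finset (Fin n)) : Subgroup (Perm (Fin n)) where
  carrier := {g | ∀ a b, (g a ∈ B ↔ g b ∈ B) ↔ (a ∈ B ↔ b ∈ B)}
  one_mem' := fun _ _ => Iff.rfl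
  mul_mem' {g h} hg hh := fun a b => (hg (h a) (h b)).trans (hh a b)
  inv_mem' {g} hg := fun a b => by
    have := hg (g⁻¹ a) (g⁻¹ b)
    simp only [Perm.coe_inv, apply_symm_apply] at this
    exact this.symm

theorem mem_shapeStab {B : Finset (Fin n)} {g : Perm (Fin n)} :
    g ∈ shapeStab B ↔ ∀ a b, (g a ∈ B ↔ g b ∈ B) ↔ (a ∈ B ↔ b ∈ B) := Iff.rfl

theorem shapeStab_map (B : Finset (Fin n)) (g : Perm (Fin n)) :
    shapeStab (B.map g.toEmbedding) = (shapeStab B).map (MulAut.conj g).toMonoidHom := by
  ext x
  rw [Subgroup.mem_map_equiv, mem_shapeStab, mem_shapeStab]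
  constructor
  · intro h a b
    have := h (g a) (g b)
    simp only [Finset.mem_map_equiv, symm_apply_apply] at this
    simpa [MulAut.conj_symm_apply] using this
  · intro h a b
    have := h (g⁻¹ a) (g⁻¹ b)
    simp [MulAut.conj_symm_apply] at this
    simpa [Finset.mem_map_equiv] using this

theorem colStab_le_shapeStab (B : Finset (Fin n)) :
    colStab (fun a => decide (a ∈ B)) ≤ shapeStab B := by
  intro g hg a b
  have h1 := hg a
  have h2 := hg b
  simp only [decide_eq_decide] at h1 h2
  rw [h1, h2]

theorem card_colStab_mem (B : Finset (Fin n)) :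
    Nat.card ↥(colStab (fun a => decide (a ∈ B))) = B.card ! * (n - B.card)! := by
  rw [card_colStab, Fintype.prod_bool]
  have e1 : (Finset.univ.filter fun a => decide (a ∈ B) = true) = B := by ext a; simp
  have e2 : (Finset.univ.filter fun a => decide (a ∈ B) = false) = Finset.univ \ B := by
    ext a; simp
  rw [e1, e2, Finset.card_univ_sdiff, Fintype.card_fin]

theorem card_shapeStab_dvd {B : Finset (Fin n)} (hB : B.Nonempty) :
    Nat.card ↥(shapeStab B) ∣ 2 * (B.card ! * (n - B.card)!) := by
  classical
  obtain ⟨a₀, ha₀⟩ := hB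
  let ψ : ↥(shapeStab B) →* ℤˣ :=
    { toFun := fun g => if (g : Perm (Fin n)) a₀ ∈ B then 1 else -1
      map_one' := by simp [ha₀]
      map_mul' := fun g h => by
        have h2 := g.2 ((h : Perm (Fin n)) a₀) a₀
        have hm : ((g * h : ↥(shapeStab B)) : Perm (Fin n)) a₀
            = (g : Perm (Fin n)) ((h : Perm (Fin n)) a₀) := rfl
        simp only [hm]
        by_cases c1 : (h : Perm (Fin n)) a₀ ∈ B <;> by_cases c2 : (g : Perm (Fin n)) a₀ ∈ B <;>
          simp_all }
  rw [← ψ.ker.card_mul_index, mul_comm, Subgroup.index_ker]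
  refine mul_dvd_mul ?_ ?_
  · exact (Subgroup.card_subgroup_dvd_card _).trans (by simp)
  · rw [← card_colStab_mem, ← Subgroup.card_map_of_injective (shapeStab B).subtype_injective]
    refine Subgroup.card_dvd_of_le ?_
    rintro _ ⟨g, hg, rfl⟩ a
    have h1 : (g : Perm (Fin n)) a₀ ∈ B := by
      by_contra h
      have := MonoidHom.mem_ker.1 hg
      simp [ψ, h] at this
    have := g.2 a a₀
    show decide _ = decide _
    rw [decide_eq_decide]
    simpa [h1, ha₀] using this

theorem exists_map_eq {B B' : Finset (Fin n)} (h : B.card = B'.card) :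
    ∃ g : Perm (Fin n), B.map g.toEmbedding = B' := by
  classical
  obtain ⟨e⟩ : Nonempty ({a // a ∈ B} ≃ {a // a ∈ B'}) := ⟨Fintype.equivOfCardEq (by simpa using h)⟩
  refine ⟨e.extendSubtype, ?_⟩
  apply Finset.eq_of_subset_of_card_le
  · intro a ha
    obtain ⟨b, hb, rfl⟩ := Finset.mem_map.1 ha
    exact e.extendSubtype_mem b hb
  · rw [Finset.card_map, h]

/-- The exceptional possibilities. -/
def Shape (n : ℕ) (π : Set ℕ) (k : ℕ) : Prop :=
  (n.Prime ∧ (∀ r : ℕ, r.Prime → r ≤ n → (r ∈ π ↔ r < n)) ∧ k = n - 1) ∨
    ((n = 7 ∨ n = 8) ∧ (∀ r : ℕ, r.Prime → r ≤ n → (r ∈ π ↔ (r = 2 ∨ r = 3))) ∧ k = 4)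

theorem shape_pi {π : Set ℕ} (h5 : 5 ≤ n) {B : Finset (Fin n)} (hB : Shape n π B.card) :
    Cfsg.IsPiSubgroup π (shapeStab B) := by
  intro p hp hd
  have hne : B.Nonempty := by
    rw [← Finset.card_pos]
    rcases hB with ⟨-, -, h⟩ | ⟨-, -, h⟩ <;> omega
  have hd' := hd.trans (card_shapeStab_dvd hne)
  rcases hp.dvd_mul.1 hd' with h2 | h2
  · obtain rfl := (Nat.prime_dvd_prime_iff_eq hp Nat.prime_two).1 h2
    rcases hB with ⟨-, h, -⟩ | ⟨-, h, -⟩ <;> simp [h 2 Nat.prime_two (by omega)]
    omega
  · have hple : p ≤ B.card ∨ p ≤ n - B.card := by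
      rcases hp.dvd_mul.1 h2 with h3 | h3
      · exact Or.inl (hp.dvd_factorial.1 h3)
      · exact Or.inr (hp.dvd_factorial.1 h3)
    rcases hB with ⟨-, h, hk⟩ | ⟨hn, h, hk⟩
    · exact (h p hp (by omega)).2 (by omega)
    · have hp4 : p ≤ 4 := by omega
      refine (h p hp (by omega)).2 ?_
      have := hp.two_le
      interval_cases p
      · exact Or.inl rfl
      · exact Or.inr rfl
      · exact absurd hp (by norm_num)

/-- The exceptional subgroups are Hall subgroups. -/
theorem shape_hall {π : Set ℕ} (h5 : 5 ≤ n) {B : Finset (Fin n)} (hB : Shape n π B.card) :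
    Cfsg.IsPiHall π (shapeStab B) := by
  refine ⟨shape_pi h5 hB, fun p hp hpπ hd => ?_⟩
  have hn! : Nat.card (Perm (Fin n)) = n ! := by
    rw [Nat.card_eq_fintype_card, Fintype.card_perm, Fintype.card_fin]
  have hi : (shapeStab B).index ∣ n ! := hn! ▸ Subgroup.index_dvd_card _
  have hpn : p ≤ n := hp.dvd_factorial.1 (hd.trans hi)
  have hle := colStab_le_shapeStab B
  have hdvd := Subgroup.index_dvd_of_le hle
  have hidx : (colStab (fun a => decide (a ∈ B))).index = n.choose B.card := by
    have h1 := (colStab (fun a => decide (a ∈ B))).card_mul_index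
    rw [card_colStab_mem, hn!, ← Nat.choose_mul_factorial_mul_factorial
      (show B.card ≤ n by simpa using Finset.card_le_univ B), mul_assoc, mul_comm (n.choose _)] at h1
    exact Nat.eq_of_mul_eq_mul_left (show 0 < B.card ! * (n - B.card)! by positivity)
      (by rw [mul_assoc, h1]; ring)
  rw [hidx] at hdvd
  rcases hB with ⟨hn, h, hk⟩ | ⟨hn, h, hk⟩
  · rw [hk, Nat.choose_symm (show 1 ≤ n by omega), Nat.choose_one_right] at hdvd
    obtain rfl := (Nat.prime_dvd_prime_iff_eq hp hn).1 (hd.trans hdvd)
    exact absurd ((h p hp hpn).1 hpπ) (lt_irrefl _)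
  · have hp23 := (h p hp hpn).1 hpπ
    rw [hk] at hdvd
    rcases hn with rfl | rfl
    · have := hd.trans hdvd
      rw [show (7 : ℕ).choose 4 = 35 by decide +kernel] at this
      rcases hp23 with rfl | rfl <;> norm_num at this
    · have h70 := hd.trans hdvd
      rw [show (8 : ℕ).choose 4 = 70 by decide +kernel] at h70
      rcases hp23 with rfl | rfl
      · -- an element exchanging the two halves
        obtain ⟨g, hg⟩ := exists_map_eq (B := B) (B' := Finset.univ \ B) (by
          rw [Finset.card_univ_sdiff, Fintype.card_fin]; omega)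
        have hgB : ∀ a, g a ∈ B ↔ a ∉ B := by
          intro a
          have : g a ∈ B.map g.toEmbedding ↔ a ∈ B := Finset.mem_map' _
          rw [hg] at this
          simp only [Finset.mem_sdiff, Finset.mem_univ, true_and] at this
          tauto
        have hgs : g ∈ shapeStab B := fun a b => by rw [hgB, hgB]; tauto
        obtain ⟨a₀, ha₀⟩ : B.Nonempty := Finset.card_pos.1 (by omega)
        have hgc : g ∉ colStab (fun a => decide (a ∈ B)) := by
          intro hgc
          have := hgc a₀
          simp only [decide_eq_decide] at this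
          exact (hgB a₀).1 (this.2 ha₀) ha₀
        have hrel := Subgroup.relIndex_mul_index hle
        rw [hidx, hk, show (8 : ℕ).choose 4 = 70 by decide +kernel] at hrel
        set t := (colStab (fun a => decide (a ∈ B))).relIndex (shapeStab B)
        obtain ⟨i, hi'⟩ := hd
        have ht2 : t ∣ 2 := by
          have hc := card_shapeStab_dvd ⟨a₀, ha₀⟩
          rw [← card_colStab_mem, ← Subgroup.card_mul_index
            ((colStab (fun a => decide (a ∈ B))).subgroupOf (shapeStab B)), mul_comm 2] at hc
          rw [Nat.card_congr (Subgroup.subgroupOfEquivOfLe hle).toEquiv] at hc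
          exact Nat.dvd_of_mul_dvd_mul_left Nat.card_pos hc
        have ht1 : t ≠ 1 := fun h1 => hgc (Subgroup.relIndex_eq_one.1 h1 hgs)
        have := Nat.le_of_dvd (by norm_num) ht2
        have ht : t ≠ 0 := fun h0 => by rw [h0] at ht2; simp at ht2
        have ht' : t = 2 := by omega
        rw [ht'] at hrel
        omega
      · norm_num at h70

theorem shape_conj {π : Set ℕ} {B B' : Finset (Fin n)} (hB : Shape n π B.card)
    (hB' : Shape n π B'.card) (h5 : 5 ≤ n) :
    ∃ g : Perm (Fin n), shapeStab B' = (shapeStab B).map (MulAut.conj g).toMonoidHom := by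
  obtain ⟨g, hg⟩ := exists_map_eq (B := B) (B' := B') (by
    rcases hB with ⟨hn, h, hk⟩ | ⟨hn, h, hk⟩ <;> rcases hB' with ⟨hn', h', hk'⟩ | ⟨hn', h', hk'⟩
    · omega
    · rcases hn' with rfl | rfl
      · exfalso
        have := (h' 5 (by norm_num) (by norm_num)).1
        exact absurd (this ((h 5 (by norm_num) (by norm_num)).2 (by norm_num))) (by norm_num)
      · exact absurd hn (by norm_num)
    · rcases hn with rfl | rfl
      · exfalso
        have := (h 5 (by norm_num) (by norm_num)).1
        exact absurd (this ((h' 5 (by norm_num) (by norm_num)).2 (by norm_num))) (by norm_num)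
      · exact absurd hn' (by norm_num)
    · omega)
  exact ⟨g, by rw [← hg, shapeStab_map]⟩

theorem shift_single_two {m : ℕ} (e : Fin m × ZMod 2 ↪ Fin n) (i : Fin m) :
    shift e (Pi.single i 1) = swap (e (i, 0)) (e (i, 1)) := by
  ext a
  congr 1
  by_cases h0 : a = e (i, 0)
  · subst h0; rw [shift_single_apply, swap_apply_left, zero_add]
  by_cases h1 : a = e (i, 1)
  · subst h1; rw [shift_single_apply, swap_apply_right]; rfl
  rw [swap_apply_of_ne_of_ne h0 h1, shift_single_out]
  intro j hj
  fin_cases j
  · exact h0 hj.symm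
  · exact h1 hj.symm

/-- **Hall subgroups of symmetric groups.** -/
theorem sym_hall {π : Set ℕ} {H : Subgroup (Perm (Fin n))} (hH : Cfsg.IsPiHall π H)
    (h2 : ∃ r s : ℕ, r.Prime ∧ s.Prime ∧ r ≠ s ∧ r ∈ π ∧ s ∈ π ∧ r ≤ n ∧ s ≤ n)
    (hns : ∃ r : ℕ, r.Prime ∧ r ≤ n ∧ r ∉ π) :
    2 ∈ π ∧ 5 ≤ n ∧ ∃ B : Finset (Fin n), Shape n π B.card ∧ H = shapeStab B := by
  classical
  have h2π := two_mem_of_hall hH h2
  obtain ⟨r, hr, hrn, hrπ, hrmin⟩ : ∃ r : ℕ, r.Prime ∧ r ≤ n ∧ r ∉ π ∧
      ∀ t : ℕ, t.Prime → t < r → t ∈ π := by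
    obtain ⟨a, b, c⟩ := Nat.find_spec hns
    refine ⟨Nat.find hns, a, b, c, fun t ht htr => ?_⟩
    by_contra htπ
    exact Nat.find_min hns htr ⟨ht, by omega, htπ⟩
  have hlt : ∀ a, (cls H a).card < r := fun a => by
    by_contra h
    exact hrπ (prime_mem_of_le_cls hH hr (not_lt.1 h))
  have hid : ∀ g x : Perm (Fin n), x ∈ (MonoidHom.id (Perm (Fin n))).range →
      g * x * g⁻¹ ∈ (MonoidHom.id (Perm (Fin n))).range := fun g x _ => ⟨_, rfl⟩
  -- at most one singleton class
  have hone : (Finset.univ.filter fun a => (cls H a).card = 1).card ≤ 1 := by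
    obtain ⟨e, he⟩ := exists_shift_mem (MonoidHom.id _) Function.injective_id hid hH Nat.prime_two
      h2π (Nat.div_mul_le_self n 2)
    refine le_trans (Finset.card_le_card (t := Finset.univ \ Finset.univ.map e) ?_) ?_
    · intro a ha
      simp only [Finset.mem_filter, Finset.mem_univ, true_and] at ha
      simp only [Finset.mem_sdiff, Finset.mem_univ, true_and, Finset.mem_map]
      rintro ⟨⟨i, j⟩, rfl⟩
      have hmem : shift e (Pi.single i 1) ∈ H := by simpa using he _ ⟨_, rfl⟩
      rw [shift_single_two] at hmem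
      have hs : swap (e (i, j)) (e (i, j + 1)) ∈ H := by
        fin_cases j
        · exact hmem
        · rw [swap_comm]; exact hmem
      have hcl : e (i, j + 1) ∈ cls H (e (i, j)) := mem_cls.2 (Or.inr hs)
      have hne : e (i, j + 1) ≠ e (i, j) := fun h => by simpa using e.injective h
      exact hne (Finset.card_le_one.1 ha.le _ hcl _ (self_mem_cls _))
    · rw [Finset.card_univ_sdiff, Finset.card_map, Finset.card_univ, Fintype.card_fin,
        Fintype.card_prod, Fintype.card_fin, ZMod.card]
      omega
  -- every prime of `π` up to `n` is small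
  have hbig : ∀ q : ℕ, q.Prime → q ∈ π → q ≤ n → q ≠ 2 → ∃ a, q ≤ (cls H a).card := by
    intro q hq hqπ hqn hq2
    haveI : Fact q.Prime := ⟨hq⟩
    obtain ⟨e, he⟩ := exists_shift_mem (MonoidHom.id _) Function.injective_id hid hH hq hqπ
      (m := 1) (by omega)
    have hmem : shift e (Pi.single 0 1) ∈ H := by simpa using he (Pi.single 0 1) ⟨_, rfl⟩
    rcases cycle_dichotomy hmem (rowEmb e 0) (fun j => shift_single_apply e 0 j)
      (fun a ha => shift_single_out e 0 fun j hj => ha ⟨j, hj⟩) with h | h
    · refine ⟨rowEmb e 0 0, ?_⟩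
      have := Finset.card_le_card (s := Finset.univ.map (rowEmb e 0)) (t := cls H (rowEmb e 0 0))
        (fun a ha => by obtain ⟨j, -, rfl⟩ := Finset.mem_map.1 ha; exact h j)
      simpa using this
    · exfalso
      have := Finset.card_le_one.1 hone (rowEmb e 0 0) (by simp [h]) (rowEmb e 0 1) (by simp [h])
      exact zero_ne_one ((rowEmb e 0).injective this)
  obtain ⟨q₀, hq₀, hq₀π, hq₀n, hq₀2⟩ : ∃ q : ℕ, q.Prime ∧ q ∈ π ∧ q ≤ n ∧ q ≠ 2 := by
    obtain ⟨a, b, ha, hb, hab, haπ, hbπ, han, hbn⟩ := h2
    rcases eq_or_ne a 2 with rfl | h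
    · exact ⟨b, hb, hbπ, hbn, hab.symm⟩
    · exact ⟨a, ha, haπ, han, h⟩
  obtain ⟨a₀, ha₀⟩ := hbig q₀ hq₀ hq₀π hq₀n hq₀2
  have hk3 : 3 ≤ (cls H a₀).card := by have := hq₀.two_le; omega
  have hr5 : 5 ≤ r := by
    have := hlt a₀
    have : r ≠ 4 := fun h => absurd (h ▸ hr) (by norm_num)
    omega
  have hπlt : ∀ q : ℕ, q.Prime → q ≤ n → (q ∈ π ↔ q < r) := by
    intro q hq hqn
    refine ⟨fun hqπ => ?_, hrmin q hq⟩
    rcases eq_or_ne q 2 with rfl | hq2
    · omega
    · obtain ⟨a, ha⟩ := hbig q hq hqπ hqn hq2
      exact lt_of_le_of_lt ha (hlt a)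
  have h3π : 3 ∈ π := hrmin 3 Nat.prime_three (by omega)
  -- multiplicities
  have hmult : ∀ k, 2 ≤ k → (classesOf H k).card ≤ 1 ∨ (k = 4 ∧ (classesOf H k).card = 2) := by
    intro k hk
    by_contra hcon
    push Not at hcon
    obtain ⟨k, rfl⟩ : ∃ j, k = j + 1 := ⟨k - 1, by omega⟩
    obtain ⟨B, hB⟩ := Finset.card_pos.1 (show 0 < (classesOf H (k + 1)).card by omega)
    obtain ⟨a, ha, -⟩ := mem_classesOf.1 hB
    have hkr : k + 1 < r := ha ▸ hlt a
    have key : ∀ p : ℕ, p.Prime → p ∣ ((1 + 1) * (k + 1) - 1).choose k → k + 1 < p := by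
      intro p hp hd
      by_contra hle
      exact (block_bound hH k hp (hrmin p hp (by omega))).2 1 (by omega) hd
    rcases Nat.lt_or_ge k 2 with hk2 | hk2
    · obtain rfl : k = 1 := by omega
      exact (block_bound hH 1 Nat.prime_three h3π).2 1 (by omega) (by decide +kernel)
    · obtain ⟨h4, rfl⟩ := choose_prime_factors (b := k + 1) (c := k) hk2 (by omega) (by
        intro p hp hd
        apply key p hp
        rwa [show (1 + 1) * (k + 1) - 1 = k + 1 + k by omega])
      exact (block_bound hH 3 Nat.prime_three h3π).2 2 (by have := hcon.2 rfl; omega)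
        (by decide +kernel)
  have hinv : ∀ a, 2 ≤ (cls H a).card → (classesOf H (cls H a).card).card ≤ 1 →
      (∀ g ∈ H, ∀ b, g b ∈ cls H a ↔ b ∈ cls H a) := by
    intro a _ h1
    have hfix : ∀ g ∈ H, (cls H a).map (Equiv.toEmbedding g) = cls H a := by
      intro g hg
      refine Finset.card_le_one.1 h1 _ ?_ _ (cls_mem_classesOf a)
      exact mem_classesOf.2 ⟨g a, by rw [cls_map hg, Finset.card_map], cls_map hg a⟩
    intro g hg b
    conv_lhs => rw [← hfix g hg]
    exact Finset.mem_map' _
  have hpair : ∀ a b, 2 ≤ (cls H a).card → (cls H a).card < (cls H b).card →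
      (classesOf H (cls H a).card).card ≤ 1 → (classesOf H (cls H b).card).card ≤ 1 →
      (cls H a).card = 3 ∧ (cls H b).card = 4 := by
    intro a b ha hab h1 h1'
    have hdis : Disjoint (cls H a) (cls H b) := by
      rw [Finset.disjoint_left]
      intro c hc hc'
      rw [← cls_eq_of_mem hc, ← cls_eq_of_mem hc'] at hab
      exact lt_irrefl _ hab
    obtain ⟨hb4, ha3⟩ := choose_prime_factors (b := (cls H b).card) (c := (cls H a).card) ha
      hab.le (by
        intro p hp hd
        by_contra hle
        have hle' : p ≤ (cls H b).card := not_lt.1 hle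
        refine two_set_bound hH hdis (hinv a ha h1) (hinv b (by omega) h1') hp
          (prime_mem_of_le_cls hH hp hle') ?_
        rwa [add_comm] at hd)
    exact ⟨ha3, hb4⟩
  -- the number of points
  have hfib : n = ∑ k ∈ Finset.range r, (classesOf H k).card * k := by
    rw [← Finset.sum_congr rfl (fun k _ => card_size_eq (H := H) k)]
    have := Finset.card_eq_sum_card_fiberwise (f := fun a => (cls H a).card)
      (s := (Finset.univ : Finset (Fin n))) (t := Finset.range r)
      (fun a _ => Finset.mem_range.2 (hlt a))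
    simpa using this
  have hm1 : (classesOf H 1).card ≤ 1 := by
    have := card_size_eq (H := H) 1
    omega
  -- finishing once the two blocks are found
  have finish : 5 ≤ n → ∀ a, Shape n π (cls H a).card →
      (∀ b, b ∉ cls H a → ∀ c, c ∉ cls H a → c ∈ cls H b) →
      2 ∈ π ∧ 5 ≤ n ∧ ∃ B : Finset (Fin n), Shape n π B.card ∧ H = shapeStab B := by
    intro h5 a hsh hcomp
    refine ⟨h2π, h5, cls H a, hsh, hall_eq_of_le hH ?_ (shape_pi h5 hsh)⟩
    have hrel : ∀ b c, c ∈ cls H b ↔ (b ∈ cls H a ↔ c ∈ cls H a) := by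
      intro b c
      constructor
      · intro h
        exact ⟨fun hb => mem_cls_trans hb h, fun hc => mem_cls_trans hc (mem_cls_symm h)⟩
      · intro h
        by_cases hb : b ∈ cls H a
        · rw [cls_eq_of_mem hb]; exact h.1 hb
        · exact hcomp b hb c (fun hc => hb (h.2 hc))
    intro g hg b c
    rw [← hrel, ← hrel, cls_map hg]
    exact Finset.mem_map' _
  have hn5 : 5 ≤ n := by omega
  by_cases hA : (classesOf H 4).card = 2
  · -- two classes of four points
    have hr5' : r = 5 := by
      by_contra hne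
      exact (block_bound hH 3 (by norm_num : (5 : ℕ).Prime) (hrmin 5 (by norm_num) (by omega))).2 1
        (by rw [show (3 : ℕ) + 1 = 4 from rfl, hA]; norm_num) (by decide +kernel)
    subst hr5'
    simp only [Finset.sum_range_succ, Finset.sum_range_zero] at hfib
    have hm2 := hmult 2 le_rfl
    have hm3 := hmult 3 (by norm_num)
    have hC := (block_bound hH 3 Nat.prime_three h3π).1
    rw [hA] at hC hfib
    have hn8 : n = 8 := by
      have : 8 ≤ n := by omega
      have : n ≤ 14 := by omega
      interval_cases n <;> first | rfl | (exfalso; exact hC (by decide +kernel))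
    obtain ⟨B, hB⟩ := Finset.card_pos.1 (show 0 < (classesOf H 4).card by omega)
    obtain ⟨a, ha, -⟩ := mem_classesOf.1 hB
    refine finish hn5 a (Or.inr ⟨Or.inr hn8, fun q hq hqn => ?_, ha⟩) ?_
    · rw [hπlt q hq hqn]
      have := hq.two_le
      constructor
      · intro h
        interval_cases q
        · exact Or.inl rfl
        · exact Or.inr rfl
        · exact absurd hq (by norm_num)
      · omega
    · intro b hb c hc
      have hall4 : ∀ d, (cls H d).card = 4 := by
        have := card_size_eq (H := H) 4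
        rw [hA] at this
        have heq : (Finset.univ.filter fun d => (cls H d).card = 4) = Finset.univ :=
          Finset.eq_univ_of_card _ (by rw [this, Fintype.card_fin, hn8])
        intro d
        have := Finset.mem_univ d
        rw [← heq] at this
        exact (Finset.mem_filter.1 this).2
      have hsub : cls H b ⊆ Finset.univ \ cls H a := fun d hd => by
        simp only [Finset.mem_sdiff, Finset.mem_univ, true_and]
        exact fun hda => hb (mem_cls_trans hda (mem_cls_symm hd))
      rw [Finset.eq_of_subset_of_card_le hsub (by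
        rw [Finset.card_univ_sdiff, Fintype.card_fin, hall4, hall4]; omega)]
      simp [hc]
  · have hsimple : ∀ k, 2 ≤ k → (classesOf H k).card ≤ 1 := fun k hk =>
      (hmult k hk).resolve_right fun h => hA (h.1 ▸ h.2)
    have hsizes : ∀ a b, 2 ≤ (cls H a).card → (cls H a).card < (cls H b).card →
        (cls H a).card = 3 ∧ (cls H b).card = 4 :=
      fun a b ha hab => hpair a b ha hab (hsimple _ ha) (hsimple _ (by omega))
    by_cases hB : ∃ b, 2 ≤ (cls H b).card ∧ (cls H b).card ≠ (cls H a₀).card
    · -- sizes three and four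
      obtain ⟨a, b, ha, hb⟩ : ∃ a b, (cls H a).card = 4 ∧ (cls H b).card = 3 := by
        obtain ⟨b, hb, hne⟩ := hB
        rcases Nat.lt_or_ge (cls H b).card (cls H a₀).card with h | h
        · exact ⟨a₀, b, (hsizes b a₀ hb h).2, (hsizes b a₀ hb h).1⟩
        · exact ⟨b, a₀, (hsizes a₀ b (by omega) (by omega)).2, (hsizes a₀ b (by omega) (by omega)).1⟩
      have hother : ∀ c, (cls H c).card = 1 ∨ (cls H c).card = 3 ∨ (cls H c).card = 4 := by
        intro c
        have hc0 : 0 < (cls H c).card := Finset.card_pos.2 ⟨c, self_mem_cls c⟩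
        by_contra hcon
        rcases Nat.lt_or_ge (cls H c).card 3 with h | h
        · have := hsizes c b (by omega) (by omega); omega
        · have := hsizes a c (by omega) (by omega); omega
      have hr5' : r = 5 := by
        by_contra hne
        refine two_set_bound hH (B := cls H b) (B' := cls H a) ?_
          (hinv b (by omega) (hsimple _ (by omega))) (hinv a (by omega) (hsimple _ (by omega)))
          (by norm_num : (5 : ℕ).Prime) (hrmin 5 (by norm_num) (by omega))
          (by rw [ha, hb]; decide +kernel)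
        rw [Finset.disjoint_left]
        intro c hc hc'
        rw [← cls_eq_of_mem hc] at hb
        rw [← cls_eq_of_mem hc'] at ha
        omega
      subst hr5'
      simp only [Finset.sum_range_succ, Finset.sum_range_zero] at hfib
      have h3 : 0 < (classesOf H 3).card := Finset.card_pos.2 ⟨_, hb ▸ cls_mem_classesOf b⟩
      have h4 : 0 < (classesOf H 4).card := Finset.card_pos.2 ⟨_, ha ▸ cls_mem_classesOf a⟩
      have h2' : (classesOf H 2).card = 0 := by
        rw [Finset.card_eq_zero, Finset.eq_empty_iff_forall_notMem]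
        intro C hC
        obtain ⟨c, hc, -⟩ := mem_classesOf.1 hC
        have := hother c
        omega
      have h3' := hsimple 3 (by norm_num)
      have h4' := hsimple 4 (by norm_num)
      have hn7 : n = 7 := by
        have : n = 7 ∨ n = 8 := by omega
        rcases this with h | h
        · exact h
        · exfalso
          have hC := (block_bound hH 2 Nat.prime_two h2π).1
          rw [show (2 : ℕ) + 1 = 3 from rfl, show (classesOf H 3).card = 1 by omega, h] at hC
          exact hC (by decide +kernel)
      refine finish hn5 a (Or.inr ⟨Or.inl hn7, fun q hq hqn => ?_, ha⟩) ?_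
      · rw [hπlt q hq hqn]
        have := hq.two_le
        constructor
        · intro h
          interval_cases q
          · exact Or.inl rfl
          · exact Or.inr rfl
          · exact absurd hq (by norm_num)
        · omega
      · intro c hc d hd
        have hsub : cls H c ⊆ Finset.univ \ cls H a := fun e he => by
          simp only [Finset.mem_sdiff, Finset.mem_univ, true_and]
          exact fun hea => hc (mem_cls_trans hea (mem_cls_symm he))
        rw [Finset.eq_of_subset_of_card_le hsub (by
          rw [Finset.card_univ_sdiff, Fintype.card_fin, ha]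
          rcases hother c with h | h | h
          · -- no singletons
            have h1 : 0 < (classesOf H 1).card := Finset.card_pos.2 ⟨_, h ▸ cls_mem_classesOf c⟩
            omega
          · omega
          · omega)]
        simp [hd]
    · -- one class and one further point
      push Not at hB
      set k := (cls H a₀).card with hk
      have hcov : Finset.univ \ cls H a₀ ⊆ Finset.univ.filter fun c => (cls H c).card = 1 := by
        intro c hc
        simp only [Finset.mem_sdiff, Finset.mem_univ, true_and] at hc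
        simp only [Finset.mem_filter, Finset.mem_univ, true_and]
        have hc0 : 0 < (cls H c).card := Finset.card_pos.2 ⟨c, self_mem_cls c⟩
        by_contra hne
        have heq := hB c (by omega)
        apply hc
        rw [← Finset.card_le_one.1 (hsimple k (by omega)) _ (heq ▸ cls_mem_classesOf c) _
          (cls_mem_classesOf a₀)]
        exact self_mem_cls c
      have hle := (Finset.card_le_card hcov).trans hone
      rw [Finset.card_univ_sdiff, Fintype.card_fin, ← hk] at hle
      have := hlt a₀
      have hn : n = k + 1 := by omega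
      have hrn' : r = n := by omega
      refine finish hn5 a₀ (Or.inl ⟨hrn' ▸ hr, fun q hq hqn => hrn' ▸ hπlt q hq hqn, by omega⟩) ?_
      intro b hb c hc
      have : c = b := Finset.card_le_one.1 (by
        rw [Finset.card_univ_sdiff, Fintype.card_fin, ← hk]; omega :
          (Finset.univ \ cls H a₀).card ≤ 1) _ (by simp [hc]) _ (by simp [hb])
      rw [this]
      exact self_mem_cls b

end Cfsg.Agent.Small.HallSym
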